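import Groth.Agent.SiteCoh.Basic
import Mathlib.Algebra.Homology.DerivedCategory.Ext.ExtClass
import Mathlib.CategoryTheory.Sites.SheafCohomology.Basic

/-!
The long exact sequence of global cohomology on a site, element-wise.
-/

universe u

open CategoryTheory Category Limits Opposite Abelian

noncomputable section

namespace Groth.Agent.CohFinite

variable {C : Type u} [SmallCategory C] {K : GrothendieckTopology C}
  {S T : ShortComplex (Sheaf K AddCommGrpCat.{u})}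

/-- The connecting map. -/
def δH (hS : S.ShortExact) (q : ℕ) : Sheaf.H.{u} S.X₃ q →+ Sheaf.H.{u} S.X₁ (q + 1) :=
  hS.extClass.postcomp _ rfl

lemma δH_natural (hS : S.ShortExact) (hT : T.ShortExact) (φ : S ⟶ T) (q : ℕ) (x : Sheaf.H.{u} S.X₃ q) :
    δH hT q (Sheaf.H.map φ.τ₃ q x) = Sheaf.H.map φ.τ₁ (q + 1) (δH hS q x) := by
  have e := ShortComplex.ShortExact.extClass_naturality hS hT φ
  change (Ext.comp x (Ext.mk₀ φ.τ₃) (add_zero q)).comp hT.extClass rfl =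
    (Ext.comp x hS.extClass rfl).comp (Ext.mk₀ φ.τ₁) (add_zero (q + 1))
  rw [Ext.comp_assoc x (Ext.mk₀ φ.τ₃) hT.extClass (add_zero q) (zero_add 1) (by omega),
    Ext.comp_assoc x hS.extClass (Ext.mk₀ φ.τ₁) rfl (add_zero 1) (by omega), e]

lemma δH_eq_zero_iff (hS : S.ShortExact) (q : ℕ) (x : Sheaf.H.{u} S.X₃ q) :
    δH hS q x = 0 ↔ ∃ y, Sheaf.H.map S.g q y = x := by
  constructor
  · exact fun h => Ext.covariant_sequence_exact₃ _ hS x rfl h
  · rintro ⟨y, rfl⟩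
    change (Ext.comp y (Ext.mk₀ S.g) (add_zero q)).comp hS.extClass rfl = 0
    rw [Ext.comp_assoc y _ _ (add_zero q) (zero_add 1) (by omega), hS.comp_extClass, Ext.comp_zero]

lemma map_g_eq_zero_iff (hS : S.ShortExact) (q : ℕ) (x : Sheaf.H.{u} S.X₂ q) :
    Sheaf.H.map S.g q x = 0 ↔ ∃ y, Sheaf.H.map S.f q y = x := by
  constructor
  · exact fun h => Ext.covariant_sequence_exact₂ _ hS x h
  · rintro ⟨y, rfl⟩
    rw [← Sheaf.H.map_comp_apply, S.zero]
    change Ext.comp y (Ext.mk₀ (0 : S.X₁ ⟶ S.X₃)) (add_zero q) = 0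
    rw [Ext.mk₀_zero, Ext.comp_zero]

lemma map_f_eq_zero_iff (hS : S.ShortExact) (q : ℕ) (x : Sheaf.H.{u} S.X₁ (q + 1)) :
    Sheaf.H.map S.f (q + 1) x = 0 ↔ ∃ y, δH hS q y = x := by
  constructor
  · exact fun h => Ext.covariant_sequence_exact₁ _ hS x h rfl
  · rintro ⟨y, rfl⟩
    change (Ext.comp y hS.extClass rfl).comp (Ext.mk₀ S.f) (add_zero (q + 1)) = 0
    rw [Ext.comp_assoc y _ _ rfl (add_zero 1) (by omega), hS.extClass_comp, Ext.comp_zero]

lemma map_f_injective (hS : S.ShortExact) : Function.Injective (Sheaf.H.map S.f 0) := by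
  intro x y hxy
  have := hS.mono_f
  obtain ⟨a, rfl⟩ := (Ext.mk₀_bijective _ _).2 x
  obtain ⟨b, rfl⟩ := (Ext.mk₀_bijective _ _).2 y
  change (Ext.mk₀ a).comp (Ext.mk₀ S.f) (add_zero 0) = (Ext.mk₀ b).comp (Ext.mk₀ S.f) (add_zero 0) at hxy
  rw [Ext.mk₀_comp_mk₀, Ext.mk₀_comp_mk₀] at hxy
  rw [(cancel_mono _).1 ((Ext.mk₀_bijective _ _).1 hxy)]

end Groth.Agent.CohFinite
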