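import Groth.Agent.CohQC.QuasiAffine
import Groth.Agent.CohFinite.Sequence
import Groth.Prelude.Def_Coh
import Mathlib.Algebra.Homology.DerivedCategory.Ext.ExtClass
import Mathlib.RingTheory.Noetherian.Basic

/-!
Cohomology maps are linear over the base; finiteness along exact sequences.
-/

universe u

open Groth.Agent.CohQC (toAbF)
open CategoryTheory Category Limits Opposite TopologicalSpace AlgebraicGeometry Abelian

set_option backward.isDefEq.respectTransparency false

noncomputable section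

namespace Groth.Agent.CohFinite

variable {X : Scheme.{u}}

/-- The underlying map of abelian sheaves. -/
abbrev toAbMap {M N : X.Modules} (φ : M ⟶ N) : Coh.toAb M ⟶ Coh.toAb N :=
  (toAbF X).map φ

lemma smulAb_natural {M N : X.Modules} (φ : M ⟶ N) (r : Coh.Γtop X) :
    Coh.smulAb M r ≫ toAbMap φ = toAbMap φ ≫ Coh.smulAb N r := by
  ext U m
  exact (φ.val.app U).hom.map_smul (Coh.resTop X U r) m

lemma map_comp_comm {F G : Sheaf (Opens.grothendieckTopology X) AddCommGrpCat.{u}} (q : ℕ)
    (f : F ⟶ F) (g : F ⟶ G) (h : G ⟶ G) (e : f ≫ g = g ≫ h) (x : Sheaf.H.{u} F q) :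
    Sheaf.H.map g q (Sheaf.H.map f q x) = Sheaf.H.map h q (Sheaf.H.map g q x) := by
  rw [← Sheaf.H.map_comp_apply, ← Sheaf.H.map_comp_apply, e]

variable (A : Type u) [CommRing A] [X.Over (Spec (CommRingCat.of A))]

/-- The map on cohomology, linear over the base. -/
def hhMap {M N : X.Modules} (φ : M ⟶ N) (q : ℕ) : Coh.HH X M q →ₗ[A] Coh.HH X N q where
  toFun := Sheaf.H.map (toAbMap φ) q
  map_add' := map_add _
  map_smul' r x := map_comp_comm q _ _ _ (smulAb_natural φ _) x

lemma hhMap_id (M : X.Modules) (q : ℕ) (x : Coh.HH X M q) : hhMap A (𝟙 M) q x = x := by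
  change Sheaf.H.map (toAbMap (𝟙 M)) q x = x
  rw [toAbMap, CategoryTheory.Functor.map_id, Sheaf.H.map_id_apply]

lemma hhMap_comp {M N P : X.Modules} (φ : M ⟶ N) (ψ : N ⟶ P) (q : ℕ) (x : Coh.HH X M q) :
    hhMap A (φ ≫ ψ) q x = hhMap A ψ q (hhMap A φ q x) := by
  change Sheaf.H.map (toAbMap (φ ≫ ψ)) q x = _
  rw [toAbMap, Functor.map_comp, Sheaf.H.map_comp_apply]
  rfl

/-- Cohomology of isomorphic modules. -/
def hhEquiv {M N : X.Modules} (e : M ≅ N) (q : ℕ) : Coh.HH X M q ≃ₗ[A] Coh.HH X N q where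
  __ := hhMap A e.hom q
  invFun := hhMap A e.inv q
  left_inv x := by
    change hhMap A e.inv q (hhMap A e.hom q x) = x
    rw [← hhMap_comp, e.hom_inv_id, hhMap_id]
  right_inv x := by
    change hhMap A e.hom q (hhMap A e.inv q x) = x
    rw [← hhMap_comp, e.inv_hom_id, hhMap_id]

section ShortExact

variable {S : ShortComplex X.Modules} (hS : S.ShortExact)

include hS in
lemma shortExact_toAb : (S.map (toAbF X)).ShortExact :=
  hS.map_of_exact _

/-- Multiplication by a global function on a short exact sequence. -/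
def smulSeq (S : ShortComplex X.Modules) (r : Coh.Γtop X) :
    S.map (toAbF X) ⟶ S.map (toAbF X) :=
  ShortComplex.homMk (Coh.smulAb S.X₁ r) (Coh.smulAb S.X₂ r) (Coh.smulAb S.X₃ r)
    (smulAb_natural S.f r) (smulAb_natural S.g r)

/-- The connecting map, linear over the base. -/
def hhδ (q : ℕ) : Coh.HH X S.X₃ q →ₗ[A] Coh.HH X S.X₁ (q + 1) where
  toFun := δH (shortExact_toAb hS) q
  map_add' := map_add _
  map_smul' r x := δH_natural (shortExact_toAb hS) (shortExact_toAb hS)
    (smulSeq S (Coh.toGlobal (X ↘ Spec (CommRingCat.of A)) r)) q x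

include hS in
/-- Finiteness of the cohomology of a quotient. -/
theorem finite_of_shortExact [IsNoetherianRing A] (q : ℕ) [Module.Finite A (Coh.HH X S.X₂ q)]
    [Module.Finite A (Coh.HH X S.X₁ (q + 1))] : Module.Finite A (Coh.HH X S.X₃ q) := by
  have hle : (⊤ : Submodule A (Coh.HH X S.X₃ q)) ⊓ LinearMap.ker (hhδ A hS q) =
      LinearMap.range (hhMap A S.g q) := by
    rw [top_inf_eq]
    ext x
    exact δH_eq_zero_iff (shortExact_toAb hS) q x
  refine (Module.finite_def).2
    (Submodule.fg_of_fg_map_of_fg_inf_ker (hhδ A hS q) (IsNoetherian.noetherian _) ?_)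
  rw [hle]
  exact Submodule.fg_range _

include hS in
/-- Finiteness of the cohomology of an extension. -/
theorem finite_of_shortExact_mid [IsNoetherianRing A] (q : ℕ) [Module.Finite A (Coh.HH X S.X₁ q)]
    [Module.Finite A (Coh.HH X S.X₃ q)] : Module.Finite A (Coh.HH X S.X₂ q) := by
  have hle : (⊤ : Submodule A (Coh.HH X S.X₂ q)) ⊓ LinearMap.ker (hhMap A S.g q) =
      LinearMap.range (hhMap A S.f q) := by
    rw [top_inf_eq]
    ext x
    exact map_g_eq_zero_iff (shortExact_toAb hS) q x
  refine (Module.finite_def).2 (Submodule.fg_of_fg_map_of_fg_inf_ker (hhMap A S.g q) (IsNoetherian.noetherian _) ?_)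
  rw [hle]
  exact Submodule.fg_range _

end ShortExact

/-- Finiteness passes to retracts and finite sums. -/
theorem finite_of_split {ι : Type} [Fintype ι] (M : X.Modules) (N : ι → X.Modules) (i : ∀ j, N j ⟶ M)
    (p : ∀ j, M ⟶ N j) (h : ∑ j, p j ≫ i j = 𝟙 M) (q : ℕ) [∀ j, Module.Finite A (Coh.HH X (N j) q)] :
    Module.Finite A (Coh.HH X M q) := by
  classical
  refine Module.Finite.of_surjective (LinearMap.lsum A (fun j => Coh.HH X (N j) q) ℕ fun j => hhMap A (i j) q)
    fun x => ⟨fun j => hhMap A (p j) q x, ?_⟩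
  simp only [LinearMap.lsum_apply, LinearMap.sum_apply, LinearMap.coe_comp, LinearMap.coe_proj,
    Function.comp_apply, Function.eval]
  have : (((Sheaf.functorH _ q).map (toAbMap (∑ j, p j ≫ i j))).hom : Coh.HH X M q →+ Coh.HH X M q) x = x := by
    rw [h]; exact hhMap_id A M q x
  rw [toAbMap, Functor.map_sum, Functor.map_sum] at this
  refine Eq.trans ?_ this
  let ev : ((Sheaf.functorH (Opens.grothendieckTopology X) q).obj (Coh.toAb M) ⟶
      (Sheaf.functorH (Opens.grothendieckTopology X) q).obj (Coh.toAb M)) →+ Coh.HH X M q :=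
    AddMonoidHom.mk' (fun f => f.hom x) (fun _ _ => rfl)
  refine Eq.trans ?_ (map_sum ev _ _).symm
  exact Finset.sum_congr rfl fun j _ => (hhMap_comp A (p j) (i j) q x).symm

end Groth.Agent.CohFinite
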