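import Groth.Agent.TMul.Assoc
import Groth.Agent.TMul.GlobGen
import Groth.Agent.ProjMor.PullSec
import Groth.Agent.ProjMor.Exists
import Groth.Agent.GrT.GammaIso
import Groth.Agent.CohFinite.Linear
import Groth.Agent.SiteCoh.Cover

/-!
Tensoring with an invertible module: exactness and the projection formula.
-/

set_option autoImplicit false
set_option backward.isDefEq.respectTransparency false

universe u

open CategoryTheory CategoryTheory.Limits AlgebraicGeometry TopologicalSpace Opposite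
open Groth.Agent.QC (res res_res res_smul app_res)

noncomputable section

namespace Groth.Agent.CohFinite

variable {X : Scheme.{u}} {M N P : X.Modules}

/-- The bilinear maps defining `φ ⊗ L`. -/
def tmapBil (φ : M ⟶ N) (L : X.Modules) (U : X.Opens) :
    Γ(M, U) →ₗ[Γ(X, U)] Γ(L, U) →ₗ[Γ(X, U)] Γ(CohB1.tensorMod N L, U) :=
  LinearMap.mk₂ Γ(X, U) (fun m l => TMul.tm (φ.app U m) l)
    (fun a b l => by rw [map_add, TMul.tm_add])
    (fun r a l => by rw [TMul.app_smul, TMul.smul_tm])
    (fun a l l' => TMul.add_tm _ _ _)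
    (fun r a l => TMul.tm_smul _ _ _)

lemma tmapBil_res (φ : M ⟶ N) (L : X.Modules) {V U : X.Opens} (h : V ≤ U) (m : Γ(M, U)) (l : Γ(L, U)) :
    res (CohB1.tensorMod N L) h (tmapBil φ L U m l) = tmapBil φ L V (res M h m) (res L h l) := by
  change res _ h (TMul.tm (φ.app U m) l) = TMul.tm (φ.app V (res M h m)) (res L h l)
  rw [TMul.res_tm, app_res]

/-- `φ ⊗ L`. -/
def tmap (φ : M ⟶ N) (L : X.Modules) : CohB1.tensorMod M L ⟶ CohB1.tensorMod N L :=
  TMul.lift (tmapBil φ L) fun h m l => tmapBil_res φ L h m l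

lemma tmap_tm (φ : M ⟶ N) (L : X.Modules) {U : X.Opens} (m : Γ(M, U)) (l : Γ(L, U)) :
    (tmap φ L).app U (TMul.tm m l) = TMul.tm (φ.app U m) l :=
  TMul.lift_tm (tmapBil φ L) (fun h m l => tmapBil_res φ L h m l) m l

lemma tmap_id (M L : X.Modules) : tmap (𝟙 M) L = 𝟙 _ :=
  TMul.hom_ext fun U m l => tmap_tm (𝟙 M) L m l

lemma tmap_comp (φ : M ⟶ N) (ψ : N ⟶ P) (L : X.Modules) : tmap (φ ≫ ψ) L = tmap φ L ≫ tmap ψ L :=
  TMul.hom_ext fun U m l => (tmap_tm _ L m l).trans
    ((tmap_tm ψ L _ l).symm.trans (congrArg ((tmap ψ L).app U) (tmap_tm φ L m l).symm))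

lemma tmap_zero (L : X.Modules) : tmap (0 : M ⟶ N) L = 0 :=
  TMul.hom_ext fun U m l => (tmap_tm _ L m l).trans (TMul.zero_tm l)

lemma tmap_add (φ ψ : M ⟶ N) (L : X.Modules) : tmap (φ + ψ) L = tmap φ L + tmap ψ L :=
  TMul.hom_ext fun U m l => (tmap_tm _ L m l).trans ((TMul.tm_add _ _ l).trans
    (congrArg₂ (· + ·) (tmap_tm φ L m l).symm (tmap_tm ψ L m l).symm))

lemma tmap_sum {ι : Type*} (s : Finset ι) (φ : ι → (M ⟶ N)) (L : X.Modules) :
    tmap (∑ i ∈ s, φ i) L = ∑ i ∈ s, tmap (φ i) L :=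
  map_sum (AddMonoidHom.mk' (fun φ => tmap φ L) fun a b => tmap_add a b L) φ s

variable {L : X.Modules} (hL : PicF.IsInvertible L)

include hL in
lemma exists_gen_le {U : X.Opens} {x : X} (hx : x ∈ U) :
    ∃ (V : X.Opens) (_ : V ≤ U) (e : Γ(L, V)), x ∈ V ∧ TMul.IsGen e := by
  obtain ⟨W, e, hxW, he⟩ := TMul.exists_isGen hL x
  exact ⟨U ⊓ W, inf_le_left, res L inf_le_right e, ⟨hx, hxW⟩, he.res _⟩

include hL in
lemma tmap_eq_zero_locally (φ : M ⟶ N) (hφ : ∀ U, Function.Injective (φ.app U)) (U : X.Opens) :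
    Function.Injective ((tmap φ L).app U) := by
  rw [injective_iff_map_eq_zero]
  intro s hs
  refine Groth.Agent.QC.section_eq_of_locally fun x hx => ?_
  obtain ⟨V, hV, e, hxV, he⟩ := exists_gen_le hL hx
  obtain ⟨m, hm⟩ := (TMul.tm_bijective (M := M) he V le_rfl).2 (res _ hV s)
  refine ⟨V, hV, hxV, ?_⟩
  have h1 : (tmap φ L).app V (res _ hV s) = 0 := by rw [← app_res, hs, map_zero]
  rw [← hm] at h1
  have h2 : φ.app V m = 0 := (TMul.tm_bijective (M := N) he V le_rfl).1
    ((tmap_tm φ L m _).symm.trans (h1.trans (TMul.zero_tm _).symm))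
  rw [map_zero, ← hm, hφ V (h2.trans (map_zero _).symm)]
  exact TMul.zero_tm _

include hL in
/-- Tensoring with an invertible module is exact. -/
theorem shortExact_tmap {S : ShortComplex X.Modules} (hS : S.ShortExact) :
    (ShortComplex.mk (tmap S.f L) (tmap S.g L)
      (by rw [← tmap_comp, S.zero, tmap_zero])).ShortExact := by
  have := hS.mono_f
  have := hS.epi_g
  have hf : ∀ U, Function.Injective (S.f.app U) := fun U => Groth.Agent.QC.app_injective_of_mono S.f U
  have hm : Mono (tmap S.f L) := (Groth.Agent.QC.mono_iff_app_injective _).2 (tmap_eq_zero_locally hL S.f hf)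
  have he : Epi (tmap S.g L) := InvGen.epi_of_locally _ fun U t x hx => by
    obtain ⟨V, hV, e, hxV, hgen⟩ := exists_gen_le hL hx
    obtain ⟨q, hq⟩ := (TMul.tm_bijective (M := S.X₃) hgen V le_rfl).2 (res _ hV t)
    have hepi : Epi ((Groth.Agent.CohQC.toAbF X).map S.g) := (shortExact_toAb hS).epi_g
    have : Presheaf.IsLocallySurjective (Opens.grothendieckTopology X) ((Groth.Agent.CohQC.toAbF X).map S.g).hom :=
      (Sheaf.isLocallySurjective_iff_epi' AddCommGrpCat.{u} _).mpr hepi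
    obtain ⟨W, hW', ⟨p, hp⟩, hxW⟩ := Presheaf.imageSieve_mem (Opens.grothendieckTopology X)
      ((Groth.Agent.CohQC.toAbF X).map S.g).hom (U := op V) q x hxV
    have hW : W ≤ V := leOfHom hW'
    have hp : S.g.app W p = res S.X₃ hW q := hp
    refine ⟨W, hW.trans hV, hxW, TMul.tm p (res L hW (res L le_rfl e)), ?_⟩
    have hq : TMul.tm q (res L le_rfl e) = res _ hV t := hq
    rw [tmap_tm, hp, ← TMul.res_tm, hq, res_res]
  let k := kernel.lift (tmap S.g L) (tmap S.f L) (by rw [← tmap_comp, S.zero, tmap_zero])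
  have hk : IsIso k := by
    have e1 : ∀ V a, (kernel.ι (tmap S.g L)).app V (k.app V a) = (tmap S.f L).app V a := fun V a =>
      ConcreteCategory.congr_hom (congrArg (fun ψ => Scheme.Modules.Hom.app ψ V)
        (kernel.lift_ι (tmap S.g L) (tmap S.f L) (by rw [← tmap_comp, S.zero, tmap_zero]))) a
    refine GrT.isIso_of_locally k (fun U a b h => tmap_eq_zero_locally hL S.f hf U (by rw [← e1, ← e1, h]))
      fun U t x hx => ?_
    obtain ⟨V, hV, e, hxV, hgen⟩ := exists_gen_le hL hx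
    obtain ⟨m, hm'⟩ := (TMul.tm_bijective (M := S.X₂) hgen V le_rfl).2
      ((kernel.ι (tmap S.g L)).app V (res _ hV t))
    have hz : (tmap S.g L).app V ((kernel.ι (tmap S.g L)).app V (res _ hV t)) = 0 :=
      ConcreteCategory.congr_hom (congrArg (fun ψ => Scheme.Modules.Hom.app ψ V) (kernel.condition (tmap S.g L))) _
    have hg0 : S.g.app V m = 0 := (TMul.tm_bijective (M := S.X₃) hgen V le_rfl).1
      ((tmap_tm S.g L m _).symm.trans ((congrArg ((tmap S.g L).app V) hm').trans (hz.trans (TMul.zero_tm _).symm)))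
    obtain ⟨a, ha⟩ := Groth.Agent.SiteCoh.sections_exact (shortExact_toAb hS) V m hg0
    have ha : S.f.app V a = m := ha
    refine ⟨V, hV, hxV, TMul.tm a (res L le_rfl e), ?_⟩
    refine Groth.Agent.QC.app_injective_of_mono (kernel.ι (tmap S.g L)) V ?_
    rw [e1, tmap_tm, ha]
    exact hm'
  exact { exact := ShortComplex.exact_of_f_is_kernel _ (IsLimit.ofIsoLimit (kernelIsKernel (tmap S.g L))
            (Fork.ext (asIso k).symm (by simp [k])))
          mono_f := hm, epi_g := he }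

section Projection

variable {Y : Scheme.{u}} (f : X ⟶ Y) (F : X.Modules) (K : Y.Modules)

/-- The bilinear maps of the projection formula. -/
def projBil (U : Y.Opens) : Γ((Scheme.Modules.pushforward f).obj F, U) →ₗ[Γ(Y, U)] Γ(K, U) →ₗ[Γ(Y, U)]
    Γ((Scheme.Modules.pushforward f).obj (CohB1.tensorMod F ((Scheme.Modules.pullback f).obj K)), U) :=
  LinearMap.mk₂ Γ(Y, U)
      (fun (m : Γ((Scheme.Modules.pushforward f).obj F, U)) l =>
        (TMul.tm (show Γ(F, f ⁻¹ᵁ U) from m) (ProjMor.eta f K U l) :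
          Γ((Scheme.Modules.pushforward f).obj (CohB1.tensorMod F ((Scheme.Modules.pullback f).obj K)), U)))
      (fun a b l => TMul.tm_add (show Γ(F, f ⁻¹ᵁ U) from a) (show Γ(F, f ⁻¹ᵁ U) from b) _)
      (fun r a l => TMul.smul_tm (f.app U r) (show Γ(F, f ⁻¹ᵁ U) from a) _)
      (fun a l l' => by rw [map_add, TMul.add_tm]; try rfl)
      (fun r a l => by rw [ProjMor.eta_smul, TMul.tm_smul]; rfl)

lemma projBil_res {V U : Y.Opens} (h : V ≤ U) (m : Γ((Scheme.Modules.pushforward f).obj F, U)) (l : Γ(K, U)) :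
    res _ h (projBil f F K U m l) = projBil f F K V (res _ h m) (res K h l) := by
  change res (CohB1.tensorMod F ((Scheme.Modules.pullback f).obj K)) (f.preimage_mono h)
    (TMul.tm (show Γ(F, f ⁻¹ᵁ U) from m) (ProjMor.eta f K U l)) =
      TMul.tm (res F (f.preimage_mono h) (show Γ(F, f ⁻¹ᵁ U) from m)) (ProjMor.eta f K V (res K h l))
  rw [TMul.res_tm, ProjMor.eta_res]

/-- `f_* F ⊗ K ⟶ f_* (F ⊗ f^* K)`. -/
def projMap : CohB1.tensorMod ((Scheme.Modules.pushforward f).obj F) K ⟶
    (Scheme.Modules.pushforward f).obj (CohB1.tensorMod F ((Scheme.Modules.pullback f).obj K)) :=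
  TMul.lift (projBil f F K) fun h m l => projBil_res f F K h m l

lemma projMap_tm {U : Y.Opens} (m : Γ(F, f ⁻¹ᵁ U)) (l : Γ(K, U)) :
    (projMap f F K).app U (TMul.tm (show Γ((Scheme.Modules.pushforward f).obj F, U) from m) l) =
      (TMul.tm m (ProjMor.eta f K U l) :
        Γ((Scheme.Modules.pushforward f).obj (CohB1.tensorMod F ((Scheme.Modules.pullback f).obj K)), U)) :=
  TMul.lift_tm (projBil f F K) (fun h m l => projBil_res f F K h m l) m l

/-- The projection formula for an invertible module with generating global sections. -/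
theorem isIso_projMap (hK : PicF.IsInvertible K) {ι : Type*} (s : ι → Γ(K, ⊤))
    (hs : ∀ y, ∃ i, y ∈ CohB1.genLocus K (TMul.homOf (s i))) : IsIso (projMap f F K) := by
  have key : ∀ y : Y, ∀ W : Y.Opens, y ∈ W → ∃ (V : Y.Opens) (_ : V ≤ W),
      y ∈ V ∧ Function.Bijective ((projMap f F K).app V) := fun y W hy => by
    obtain ⟨i, hi⟩ := hs y
    let V := W ⊓ CohB1.genLocus K (TMul.homOf (s i))
    have hgK : TMul.IsGen (res K (le_top : V ≤ ⊤) (s i)) := by
      have := (ProjMor.isGen_homOf (s i)).res (inf_le_right : V ≤ _)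
      rwa [res_res] at this
    have hgX : TMul.IsGen (ProjMor.eta f K V (res K le_top (s i))) := by
      have h1 := (ProjMor.isGen_homOf (L := (Scheme.Modules.pullback f).obj K) (ProjUP.pullSec f K (s i))).res
        ((f.preimage_mono (inf_le_right : V ≤ _)).trans (ProjMor.genLocus_pullSec f hK (s i)).ge)
      rw [res_res, ProjMor.res_pullSec f K (s i) (le_refl (f ⁻¹ᵁ V)), Groth.Agent.QC.res_self] at h1
      exact h1
    refine ⟨V, inf_le_left, ⟨hy, hi⟩, ?_⟩
    have h1 := TMul.tm_bijective (M := (Scheme.Modules.pushforward f).obj F) hgK V le_rfl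
    have h2 := TMul.tm_bijective (M := F) hgX (f ⁻¹ᵁ V) le_rfl
    refine (Function.Bijective.of_comp_iff _ h1).mp ?_
    refine Eq.mpr (congrArg _ (funext fun m => ?_)) h2
    refine (congrArg ((projMap f F K).app V)
      (congrArg (TMul.tm m) (Groth.Agent.QC.res_self K le_rfl _))).trans ?_
    refine (projMap_tm f F K _ _).trans ?_
    rw [Groth.Agent.QC.res_self]
  refine GrT.isIso_of_locally _ (fun W => (injective_iff_map_eq_zero _).mpr fun t ht =>
    Groth.Agent.QC.section_eq_of_locally fun y hy => ?_) fun W t y hy => ?_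
  · obtain ⟨V, hV, hyV, hb⟩ := key y W hy
    exact ⟨V, hV, hyV, hb.1 (by rw [← app_res, ht, map_zero, map_zero, map_zero])⟩
  · obtain ⟨V, hV, hyV, hb⟩ := key y W hy
    exact ⟨V, hV, hyV, hb.2 _⟩

end Projection

end Groth.Agent.CohFinite
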