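import Groth.Agent.CohFinite.CompareNat
import Groth.Agent.CohFinite.Linear
import Groth.Agent.ProjCech.HUNat
import Groth.Agent.SiteCoh.DirectTop
import Groth.Agent.CohQC.Push

/-!
Invariance of cohomology under acyclic direct images, linearly over the base.
-/

universe u

open CategoryTheory Category Limits Opposite TopologicalSpace AlgebraicGeometry
open Groth.Agent.SiteCoh

set_option backward.isDefEq.respectTransparency false

noncomputable section

namespace Groth.Agent.CohFinite

/-- Global cohomology of an acyclic direct image, naturally in the sheaf. -/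
theorem h_push_natural {X Y : TopCat.{u}} (f : X ⟶ Y) (n : ℕ) :
    ∃ a : ∀ F : CohTop.Ab X, DirectAcyclic (Opens.grothendieckTopology Y) (Opens.map f) F →
      (CohTop.H F n ≃+ CohTop.H ((CohTop.push f).obj F) n),
      ∀ (F : CohTop.Ab X) (hF : DirectAcyclic (Opens.grothendieckTopology Y) (Opens.map f) F) (φ : F ⟶ F)
        (x : CohTop.H F n),
        a F hF (Sheaf.H.map φ n x) = Sheaf.H.map ((CohTop.push f).map φ) n (a F hF x) := by
  obtain ⟨a, ha⟩ := hu_compare_class_natural (CohTop.push f) (U := (Opens.map f).obj ⊤) (U' := (⊤ : Opens Y))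
    (fun G => AddEquiv.refl _) (fun _ _ => rfl)
    (DirectAcyclic (Opens.grothendieckTopology Y) (Opens.map f))
    (fun G hG => directAcyclic_shortExact (Opens.map f) hG)
    (fun I hI q => @push_injective_acyclic _ _ f I hI ⊤ q)
    (fun G hG => directAcyclic_quotient (Opens.map f) hG) n
  let hT : IsTerminal ((Opens.map f).obj (⊤ : Opens Y)) := isTerminalTop
  refine ⟨fun F hF => ((huTerminalEquiv (Opens.grothendieckTopology X) hT F n).trans (a F hF)).trans
    (huTerminalEquiv (Opens.grothendieckTopology Y) isTerminalTop ((CohTop.push f).obj F) n).symm,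
    fun F hF φ x => ?_⟩
  apply (huTerminalEquiv (Opens.grothendieckTopology Y) isTerminalTop ((CohTop.push f).obj F) n).injective
  refine Eq.trans ?_ (ProjCech.huTerminalEquiv_natural (Opens.grothendieckTopology Y) isTerminalTop
    ((CohTop.push f).map φ) n _).symm
  simp only [AddEquiv.trans_apply, AddEquiv.apply_symm_apply]
  refine (congrArg (a F hF) (ProjCech.huTerminalEquiv_natural (Opens.grothendieckTopology X) hT φ n x)).trans ?_
  exact ha F F hF hF φ _

variable {X Y : Scheme.{u}} (A : Type u) [CommRing A]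
  [X.Over (Spec (CommRingCat.of A))] [Y.Over (Spec (CommRingCat.of A))]

lemma smulAb_push (π : Y ⟶ X) (M : Y.Modules) (r : Coh.Γtop X) :
    (CohTop.push π.base).map (Coh.smulAb M (π.appTop r)) =
      Coh.smulAb ((Scheme.Modules.pushforward π).obj M) r := by
  ext U m
  change (Y.presheaf.map (homOfLE (le_top : π ⁻¹ᵁ U.unop ≤ ⊤)).op (π.app ⊤ r)) • (show Γ(M, π ⁻¹ᵁ U.unop) from m) =
    (π.app U.unop (X.presheaf.map (homOfLE (le_top : U.unop ≤ ⊤)).op r)) • (show Γ(M, π ⁻¹ᵁ U.unop) from m)
  refine congrArg (fun c => c • (show Γ(M, π ⁻¹ᵁ U.unop) from m)) ?_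
  exact (ConcreteCategory.congr_hom (π.naturality (homOfLE (le_top : U.unop ≤ ⊤)).op) r).symm

/-- Cohomology of an acyclic direct image, linearly over the base. -/
theorem hh_push_linear (π : Y ⟶ X)
    (hπ : π ≫ (X ↘ Spec (CommRingCat.of A)) = Y ↘ Spec (CommRingCat.of A)) (M : Y.Modules)
    (hM : DirectAcyclic (Opens.grothendieckTopology X) (Opens.map π.base) (Coh.toAb M)) (n : ℕ) :
    Nonempty (Coh.HH Y M n ≃ₗ[A] Coh.HH X ((Scheme.Modules.pushforward π).obj M) n) := by
  obtain ⟨a, ha⟩ := h_push_natural π.base n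
  refine ⟨{ a (Coh.toAb M) hM with map_smul' := fun r x => ?_ }⟩
  let g := Coh.toGlobal (X ↘ Spec (CommRingCat.of A)) r
  have hg : Coh.toGlobal (Y ↘ Spec (CommRingCat.of A)) r = π.appTop g := by
    rw [← hπ]
    simp only [Coh.toGlobal, Scheme.Hom.comp_appTop]
    rfl
  change a (Coh.toAb M) hM (Sheaf.H.map (Coh.smulAb M (Coh.toGlobal (Y ↘ Spec (CommRingCat.of A)) r)) n x) =
    Sheaf.H.map (Coh.smulAb ((Scheme.Modules.pushforward π).obj M) g) n (a (Coh.toAb M) hM x)
  rw [hg]
  exact (ha _ hM _ x).trans (congrArg (fun s => Sheaf.H.map s n (a (Coh.toAb M) hM x)) (smulAb_push π M g))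

theorem finite_push_iff (π : Y ⟶ X)
    (hπ : π ≫ (X ↘ Spec (CommRingCat.of A)) = Y ↘ Spec (CommRingCat.of A)) (M : Y.Modules)
    (hM : DirectAcyclic (Opens.grothendieckTopology X) (Opens.map π.base) (Coh.toAb M)) (n : ℕ) :
    Module.Finite A (Coh.HH Y M n) ↔ Module.Finite A (Coh.HH X ((Scheme.Modules.pushforward π).obj M) n) := by
  obtain ⟨e⟩ := hh_push_linear A π hπ M hM n
  exact ⟨fun h => Module.Finite.equiv e, fun h => Module.Finite.equiv e.symm⟩

end Groth.Agent.CohFinite
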