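import Groth.Agent.CohQC.Affineness
import Groth.Agent.CohFinite.Tensor
import Groth.Agent.TMul.AmpleBasis

/-!
Ampleness from vanishing of the first cohomology of twisted ideals.
-/

universe u

open CategoryTheory CategoryTheory.Limits Opposite TopologicalSpace AlgebraicGeometry
open Groth.Agent.QC (res res_res res_smul app_res resO)
open Groth.Agent.SiteCoh (sections_exact)
open TMul (val homOf val_homOf)

set_option backward.isDefEq.respectTransparency false

noncomputable section

namespace Groth.Agent.CohFinite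

variable {X : Scheme.{u}}

/-- The bilinear maps of `a ⊗ l ↦ ι(a) • l`. -/
def actBil {A : X.Modules} (i : A ⟶ Coh.structureModule X) (N : X.Modules) (U : X.Opens) :
    Γ(A, U) →ₗ[Γ(X, U)] Γ(N, U) →ₗ[Γ(X, U)] Γ(N, U) :=
  LinearMap.mk₂ Γ(X, U) (fun a l => (show Γ(X, U) from i.app U a) • l)
    (fun a b l => by rw [map_add]; exact add_smul _ _ _)
    (fun r a l => by rw [TMul.app_smul]; exact mul_smul r _ _)
    (fun a l l' => smul_add _ _ _)
    (fun r a l => smul_comm (show Γ(X, U) from i.app U a) r l)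

lemma actBil_res {A : X.Modules} (i : A ⟶ Coh.structureModule X) (N : X.Modules) {V U : X.Opens}
    (h : V ≤ U) (a : Γ(A, U)) (l : Γ(N, U)) :
    res N h (actBil i N U a l) = actBil i N V (res A h a) (res N h l) :=
  (res_smul N h _ l).trans (congrArg (HSMul.hSMul · (res N h l)) (app_res i h a))

/-- `A ⊗ N ⟶ N` for an ideal `A`. -/
def actMap {A : X.Modules} (i : A ⟶ Coh.structureModule X) (N : X.Modules) : CohB1.tensorMod A N ⟶ N :=
  TMul.lift (actBil i N) fun h a l => actBil_res i N h a l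

lemma actMap_tm {A : X.Modules} (i : A ⟶ Coh.structureModule X) (N : X.Modules) {U : X.Opens}
    (a : Γ(A, U)) (l : Γ(N, U)) :
    (actMap i N).app U (TMul.tm a l) = (show Γ(X, U) from i.app U a) • l :=
  TMul.lift_tm (actBil i N) (fun h a l => actBil_res i N h a l) a l

/-- One section with affine generating locus through a closed point. -/
theorem exists_genLocus_of_isClosed {L : X.Modules} (hL : PicF.IsInvertible L)
    (h : ∀ (I : X.Modules) (i : I ⟶ Coh.structureModule X), Mono i → Coh.IsQCoh I →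
      ∃ n : ℕ, Subsingleton (Coh.HH X (CohB1.tensorMod I (CohB1.tensorPow L (n + 1))) 1))
    {x : X} (hx : IsClosed ({x} : Set X)) :
    ∃ (n : ℕ) (s : Coh.structureModule X ⟶ CohB1.tensorPow L (n + 1)),
      x ∈ CohB1.genLocus _ s ∧ IsAffineOpen (CohB1.genLocus _ s) := by
  classical
  obtain ⟨U₀, e₀, hxU₀, he₀⟩ := TMul.exists_isGen hL x
  obtain ⟨U, hU, hxU, hUU₀⟩ := CohQC.exists_affine_le U₀ x hxU₀
  let V : X.Opens := ⟨{x}ᶜ, hx.isOpen_compl⟩
  let Z1 : Closeds X := ⟨(U : Set X)ᶜ, U.2.isClosed_compl⟩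
  let Z2 : Closeds X := ⟨(U : Set X)ᶜ ∪ {x}, U.2.isClosed_compl.union hx⟩
  let I1 := Scheme.IdealSheafData.vanishingIdeal Z1
  let I2 := Scheme.IdealSheafData.vanishingIdeal Z2
  have s1 : (I1.support : Set X) = (U : Set X)ᶜ := Scheme.IdealSheafData.coe_support_vanishingIdeal _
  have s2 : (I2.support : Set X) = (U : Set X)ᶜ ∪ {x} := Scheme.IdealSheafData.coe_support_vanishingIdeal _
  obtain ⟨j, hj⟩ := QC.exists_lift_of_range (ClSub.idealModι I1) (ClSub.idealModι I2) fun O a =>
    CohQC.range_idealModι_mono (Scheme.IdealSheafData.vanishingIdeal_antimono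
      (show Z1 ≤ Z2 from fun y hy => Or.inl hy)) O _ ⟨a, rfl⟩
  have : Mono j := by
    have : Mono (j ≫ ClSub.idealModι I1) := hj ▸ inferInstance
    exact mono_of_mono j (ClSub.idealModι I1)
  obtain ⟨n, hn⟩ := h (ClSub.idealMod I2) (ClSub.idealModι I2) inferInstance (QC.isQCoh_idealMod I2)
  let N := CohB1.tensorPow L (n + 1)
  obtain ⟨e, he⟩ : ∃ e : Γ(N, U), TMul.IsGen e := ⟨_, TMul.isGen_pw (he₀.res hUU₀) (n + 1)⟩
  have hN : PicF.IsInvertible N := TMul.isInvertible_tensorPow hL _
  let jj := tmap j N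
  have : Mono jj := (QC.mono_iff_app_injective _).2
    (tmap_eq_zero_locally hN j fun W => QC.app_injective_of_mono j W)
  have hS := CohQC.monoSeq_shortExact jj
  obtain ⟨a, ha⟩ := CohQC.range_idealModι_of_disjoint I1 U (by rw [s1, Set.inter_compl_self]) 1
  let S := CohQC.monoSeq jj
  let π := fun W : X.Opens => (S.g.hom.app (op W))
  let t : Γ(CohB1.tensorMod (ClSub.idealMod I1) N, U) := TMul.tm a e
  have hzero : S.X₃.obj.map (homOfLE (inf_le_left : U ⊓ V ≤ U)).op (π U t) = 0 := by
    rw [← NatTrans.naturality_apply]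
    obtain ⟨b, hb⟩ := CohQC.range_idealModι_of_disjoint I2 (U ⊓ V) (by
      rw [s2, Set.eq_empty_iff_forall_notMem]
      rintro y ⟨⟨hyU, hyV⟩, hy | hy⟩
      · exact hy hyU
      · exact hyV hy) (resO X (inf_le_left : U ⊓ V ≤ U) 1)
    have hjb : j.app (U ⊓ V) b = res (ClSub.idealMod I1) inf_le_left a := by
      apply QC.app_injective_of_mono (ClSub.idealModι I1) (U ⊓ V)
      rw [← app_res, ha]
      refine Eq.trans ?_ hb
      rw [← hj]
      rfl
    have hjt : jj.app (U ⊓ V) (TMul.tm b (res N inf_le_left e)) =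
        res (CohB1.tensorMod (ClSub.idealMod I1) N) inf_le_left t := by
      rw [TMul.res_tm, ← hjb]
      exact tmap_tm j N b _
    refine (congr_arg (π (U ⊓ V)) hjt.symm).trans ?_
    exact ConcreteCategory.congr_hom (NatTrans.congr_app (congr_arg (fun m => m.hom) S.zero) (op (U ⊓ V))) _
  let F : TopCat.Sheaf AddCommGrpCat.{u} X.carrier := S.X₃
  let W : ULift.{u} Bool → X.Opens := fun i => if i.down then U else V
  obtain ⟨q, hq, -⟩ := F.existsUnique_gluing' W ⊤ (fun i => homOfLE le_top)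
    (fun y _ => Opens.mem_iSup.mpr (if hy : y = x then ⟨⟨true⟩, hy ▸ hxU⟩ else ⟨⟨false⟩, hy⟩))
    (fun i => match i with
      | ⟨true⟩ => π U t
      | ⟨false⟩ => 0)
    (by
      rintro ⟨_ | _⟩ ⟨_ | _⟩
      · simp
      · have e : Opens.infLERight V U = (eqToHom (inf_comm V U)) ≫ homOfLE (inf_le_left : U ⊓ V ≤ U) :=
          Subsingleton.elim _ _
        refine (map_zero _).trans (Eq.symm ?_)
        change S.X₃.obj.map (Opens.infLERight V U).op (π U t) = 0
        rw [e, op_comp, Functor.map_comp, ConcreteCategory.comp_apply, hzero, map_zero]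
      · refine (Eq.trans ?_ (map_zero _).symm)
        exact hzero
      · rfl)
  obtain ⟨l, hl⟩ := CohQC.sections_surjective_top hS hn q
  let φ := actMap (ClSub.idealModι I1) N
  let s : Coh.structureModule X ⟶ N := homOf (φ.app ⊤ l)
  have hd : π U (res (CohB1.tensorMod (ClSub.idealMod I1) N) le_top l - t) = 0 := by
    rw [map_sub, sub_eq_zero]
    refine (NatTrans.naturality_apply S.g.hom (homOfLE (le_top : U ≤ ⊤)).op l).trans ?_
    rw [hl]
    exact hq ⟨true⟩
  obtain ⟨c, hc⟩ := sections_exact hS U _ hd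
  obtain ⟨c', hc'⟩ := (TMul.tm_bijective (M := ClSub.idealMod I2) he U le_rfl).2 c
  let g : Γ(X, U) := (ClSub.idealModι I2).app U c'
  have hval : val s U = (g + 1) • e := by
    rw [val_homOf, app_res]
    have hc1 : jj.app U c = res (CohB1.tensorMod (ClSub.idealMod I1) N) le_top l - t := hc
    rw [← hc', tmap_tm, Groth.Agent.QC.res_self] at hc1
    rw [← sub_add_cancel (res (CohB1.tensorMod (ClSub.idealMod I1) N) le_top l) t, ← hc1, map_add,
      actMap_tm, actMap_tm, add_smul]
    congr 1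
    · exact congrArg (· • e) (congrArg (fun ψ : _ ⟶ Coh.structureModule X => ψ.app U c') hj)
    · exact congrArg (· • e) ha
  have hinf := TMul.genLocus_inf s he hval
  have hle : CohB1.genLocus N s ≤ U := fun y hy => by
    by_contra hyU
    obtain ⟨W', e', hyW, he'⟩ := TMul.exists_isGen hN y
    obtain ⟨m, hm⟩ := (TMul.tm_bijective (M := ClSub.idealMod I1) he' W' le_rfl).2
      (res (CohB1.tensorMod (ClSub.idealMod I1) N) le_top l)
    have hvalW : val s W' = (show Γ(X, W') from (ClSub.idealModι I1).app W' m) • e' := by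
      rw [val_homOf, app_res, ← hm, actMap_tm, Groth.Agent.QC.res_self]
    have hyb := (TMul.genLocus_inf s he' hvalW).le ⟨hyW, hy⟩
    exact CohQC.basicOpen_disjoint_of_range I1 _ ⟨m, rfl⟩ y (by
      change y ∈ (I1.support : Set X)
      rw [s1]; exact hyU) hyb
  rw [inf_eq_right.mpr hle] at hinf
  refine ⟨n, s, ?_, hinf ▸ hU.basicOpen _⟩
  rw [hinf, X.mem_basicOpen _ x hxU]
  have hg : ¬ IsUnit (X.presheaf.germ U x hxU g) := fun hunit =>
    CohQC.basicOpen_disjoint_of_range I2 g ⟨c', rfl⟩ x (by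
      change x ∈ (I2.support : Set X)
      rw [s2]; exact Or.inr rfl) ((X.mem_basicOpen g x hxU).2 hunit)
  rcases IsLocalRing.isUnit_or_isUnit_of_add_one
    (show X.presheaf.germ U x hxU (g + 1) + -(X.presheaf.germ U x hxU g) = 1 by
      rw [map_add, map_one]; ring) with h1 | h1
  · exact h1
  · exact absurd (IsUnit.neg_iff _ |>.mp h1) hg

/-- Serre's criterion of ampleness. -/
theorem isAmple_of_h1_vanish [CompactSpace X] {L : X.Modules} (hL : PicF.IsInvertible L)
    (h : ∀ (I : X.Modules) (i : I ⟶ Coh.structureModule X), Mono i → Coh.IsQCoh I →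
      ∃ n : ℕ, Subsingleton (Coh.HH X (CohB1.tensorMod I (CohB1.tensorPow L (n + 1))) 1)) :
    CohB1.IsAmple L := by
  refine ⟨hL, inferInstance, fun y => ?_⟩
  obtain ⟨x, hxy, hx⟩ := (isClosed_closure (s := ({y} : Set X))).exists_closed_singleton
    ⟨y, subset_closure rfl⟩
  obtain ⟨n, s, hxs, hs⟩ := exists_genLocus_of_isClosed hL h hx
  exact ⟨n, s, (specializes_iff_mem_closure.mpr hxy).mem_open (CohB1.genLocus _ s).2 hxs, hs⟩

end Groth.Agent.CohFinite
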