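import Groth.Agent.RPushQC.Acyclic
import Groth.Agent.CohQC.Push
import Groth.Agent.CohQC.QuasiAffine
import Groth.Agent.CohQC.Restrict
import Groth.Agent.GrT.Vanish
import Groth.Agent.QC.Sections
import Groth.Agent.QC.Generated

/-!
Vanishing of higher direct images from vanishing over the members of an affine cover.
-/

universe u

open CategoryTheory Category Limits Opposite TopologicalSpace AlgebraicGeometry
open Groth.Agent.SiteCoh

set_option backward.isDefEq.respectTransparency false

noncomputable section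

namespace Groth.Agent.CohFinite

open Groth.Agent.QC (res resO)

variable {X S : Scheme.{u}}

/-- A quasi-coherent module without sections over the members of an affine cover is zero. -/
theorem isZero_of_affine_cover (M : X.Modules) (hM : Coh.IsQCoh M) {ι : Type*} (V : ι → X.Opens)
    (hV : ∀ i, IsAffineOpen (V i)) (hcov : ∀ x, ∃ i, x ∈ V i) (h : ∀ i (s : Γ(M, V i)), s = 0) :
    IsZero M := by
  refine GrT.isZero_modules_of_subsingleton fun U s => QC.section_eq_of_locally fun x hx => ?_
  obtain ⟨i, hi⟩ := hcov x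
  obtain ⟨g, hg, hxg⟩ := (hV i).exists_basicOpen_le ⟨x, hx⟩ hi
  refine ⟨X.basicOpen g, hg, hxg, ?_⟩
  obtain ⟨n, s', hs'⟩ := (QC.isLoc_of_isQCoh (hV i) (hM := hM)).exists_extend g (res M hg s)
  rw [h i s', map_zero] at hs'
  rw [map_zero]
  exact ((QC.isUnit_resO_basicOpen (hV i) g).pow n).smul_eq_zero.mp hs'.symm

/-- Cohomology over the preimage of an affine open is sections of the higher direct image. -/
theorem hu_equiv_sections (f : X ⟶ S) [QuasiCompact f] [QuasiSeparated f] (M : X.Modules)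
    (hM : Coh.IsQCoh M) {V : S.Opens} (hV : IsAffineOpen V) (q : ℕ) :
    Nonempty (CohSite.HU (Coh.toAb M) q (f ⁻¹ᵁ V) ≃+
      ↑(((Coh.RpushAb f q).obj (Coh.toAb M)).obj.obj (op V))) := by
  let R := injectiveResolution (Coh.toAb M)
  let e := fun n => R.isoRightDerivedObj (CohTop.push f.base) n
  obtain ⟨a⟩ := homology_sections (Opens.map f.base) R (J' := Opens.grothendieckTopology S) V
    (fun n p => push_injective_acyclic f.base (R.cocomplex.X n) V p)
    (fun n => acyc_of_iso (e n) fun p => RPushQC.hu_rpushAb_vanish f M hM hV p n) q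
  exact ⟨a.trans (((sheafToPresheaf _ _).mapIso (e q)).app (op V)).symm.addCommGroupIsoToAddEquiv⟩

/-- Higher direct images vanish as soon as the cohomology over the preimages of an affine cover does. -/
theorem locKilled_of_hu_vanish (f : X ⟶ S) [QuasiCompact f] [QuasiSeparated f] (M : X.Modules)
    (hM : Coh.IsQCoh M) {ι : Type*} (V : ι → S.Opens) (hV : ∀ i, IsAffineOpen (V i))
    (hcov : ∀ s, ∃ i, s ∈ V i) (q : ℕ)
    (h : ∀ i, Subsingleton (CohSite.HU (Coh.toAb M) q (f ⁻¹ᵁ V i))) :
    LocKilled (Opens.grothendieckTopology S) (Opens.map f.base) (Coh.toAb M) q := by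
  obtain ⟨N, hN, ⟨e⟩⟩ := RPushQC.exists_qcoh_iso_rpushAb f M hM q
  have hz : IsZero N := isZero_of_affine_cover N hN V hV hcov fun i s => by
    obtain ⟨a⟩ := hu_equiv_sections f M hM (hV i) q
    have := h i
    have h2 : Subsingleton ↑(((Coh.RpushAb f q).obj (Coh.toAb M)).obj.obj (op (V i))) :=
      a.toEquiv.symm.subsingleton
    exact ((((sheafToPresheaf _ _).mapIso e).app (op (V i))).addCommGroupIsoToAddEquiv).toEquiv.injective
      (h2.elim _ _)
  have : IsZero (Coh.toAb N) := Functor.map_isZero (Groth.Agent.CohQC.toAbF S) hz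
  exact locKilled_of_isZero (Opens.map f.base) (this.of_iso e.symm)

theorem directAcyclic_of_hu_vanish (f : X ⟶ S) [QuasiCompact f] [QuasiSeparated f] (M : X.Modules)
    (hM : Coh.IsQCoh M) {ι : Type*} (V : ι → S.Opens) (hV : ∀ i, IsAffineOpen (V i))
    (hcov : ∀ s, ∃ i, s ∈ V i)
    (h : ∀ i q, Subsingleton (CohSite.HU (Coh.toAb M) (q + 1) (f ⁻¹ᵁ V i))) :
    DirectAcyclic (Opens.grothendieckTopology S) (Opens.map f.base) (Coh.toAb M) :=
  fun q => locKilled_of_hu_vanish f M hM V hV hcov (q + 1) fun i => h i q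

theorem directAcyclic_of_hh_vanish (f : X ⟶ S) [QuasiCompact f] [QuasiSeparated f] (M : X.Modules)
    (hM : Coh.IsQCoh M) {ι : Type*} (V : ι → S.Opens) (hV : ∀ i, IsAffineOpen (V i))
    (hcov : ∀ s, ∃ i, s ∈ V i)
    (h : ∀ i q, Subsingleton (Coh.HH (f ⁻¹ᵁ V i) (M.restrict (f ⁻¹ᵁ V i).ι) (q + 1))) :
    DirectAcyclic (Opens.grothendieckTopology S) (Opens.map f.base) (Coh.toAb M) :=
  directAcyclic_of_hu_vanish f M hM V hV hcov fun i q => by
    obtain ⟨e⟩ := CohQC.hu_restrict M (f ⁻¹ᵁ V i) (q + 1)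
    have := h i q
    exact e.toEquiv.subsingleton

end Groth.Agent.CohFinite
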