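import Groth.Agent.CohFinite.AmpleFinite
import Groth.Agent.CohFinite.RPushVanish
import Groth.Agent.Chow.Cover
import Groth.Agent.Devissage.Apply2
import Groth.Agent.ProjMor.Segre
import Groth.Agent.TMul.RelAmple

/-!
Finiteness of coherent cohomology on a scheme proper over a Noetherian affine scheme.
-/

universe u

open CategoryTheory CategoryTheory.Limits Opposite TopologicalSpace AlgebraicGeometry
open Groth.Agent.SiteCoh
open Groth.Agent.QC (res resO res_res res_smul res_self)

set_option backward.isDefEq.respectTransparency false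

noncomputable section

namespace Groth.Agent.CohFinite

lemma finite_of_shortExact_left (A : Type u) [CommRing A] [IsNoetherianRing A] {X : Scheme.{u}}
    [X.Over (Spec (CommRingCat.of A))] {S : ShortComplex X.Modules} (hS : S.ShortExact)
    (h₂ : ∀ q, Module.Finite A (Coh.HH X S.X₂ q)) (h₃ : ∀ q, Module.Finite A (Coh.HH X S.X₃ q)) (q : ℕ) :
    Module.Finite A (Coh.HH X S.X₁ q) := by
  have := h₂ q
  rcases q with _ | q
  · exact Module.Finite.of_injective (hhMap A S.f 0) (map_f_injective (shortExact_toAb hS))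
  · have := h₃ q
    refine (Module.finite_def).2
      (Submodule.fg_of_fg_map_of_fg_inf_ker (hhMap A S.f (q + 1)) (IsNoetherian.noetherian _) ?_)
    have hle : (⊤ : Submodule A (Coh.HH X S.X₁ (q + 1))) ⊓ LinearMap.ker (hhMap A S.f (q + 1)) =
        LinearMap.range (hhδ A hS q) := by
      rw [top_inf_eq]
      ext x
      exact map_f_eq_zero_iff (shortExact_toAb hS) q x
    rw [hle]
    exact Submodule.fg_range _

/-- A retract of a module with finite cohomology has finite cohomology. -/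
lemma finite_of_retract (A : Type u) [CommRing A] {X : Scheme.{u}} [X.Over (Spec (CommRingCat.of A))]
    {M N : X.Modules} (i : N ⟶ M) (p : M ⟶ N) (h : i ≫ p = 𝟙 N) (q : ℕ) [Module.Finite A (Coh.HH X M q)] :
    Module.Finite A (Coh.HH X N q) :=
  Module.Finite.of_surjective (hhMap A p q) fun x =>
    ⟨hhMap A i q x, by rw [← hhMap_comp, h, hhMap_id]⟩

variable {X Y : Scheme.{u}}

/-- Twisting by high powers of an ample module kills the higher direct images. -/
theorem exists_directAcyclic_pow [CompactSpace X] [IsLocallyNoetherian X] (π : Y ⟶ X) [IsProper π]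
    {L : Y.Modules} (hL : CohB1.IsAmple L) :
    ∃ k : ℕ, DirectAcyclic (Opens.grothendieckTopology X) (Opens.map π.base)
      (Coh.toAb (CohB1.tensorPow L k)) := by
  obtain ⟨ι, hι, V, hV, -, hcov⟩ := QC.exists_finite_affine_cover (X := X) (W := ⊤) (by simpa using isCompact_univ)
  have key : ∀ i, ∃ n₀ : ℕ, ∀ k, n₀ ≤ k → ∀ p : ℕ, Subsingleton (Coh.HH (π ⁻¹ᵁ V i).toScheme
      ((CohB1.tensorPow L k).restrict (π ⁻¹ᵁ V i).ι) (p + 1)) := fun i => by
    have : IsNoetherianRing Γ(X, V i) := IsLocallyNoetherian.component_noetherian ⟨V i, hV i⟩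
    have hp : IsProper (π ∣_ V i) := IsZariskiLocalAtTarget.restrict (P := @IsProper) ‹_› (V i)
    have : CompactSpace (π ⁻¹ᵁ V i).toScheme :=
      isCompact_iff_compactSpace.mp (π.isCompact_preimage (hV i).isCompact)
    have hLi : CohB1.IsAmple (L.restrict (π ⁻¹ᵁ V i).ι) := TMul.isAmple_restrict _ hL
    obtain ⟨n₀, hn₀⟩ := vanish_ample ((π ∣_ V i) ≫ (hV i).isoSpec.hom) hLi
      (M := Coh.structureModule (π ⁻¹ᵁ V i).toScheme)
      ⟨Groth.Agent.QC.isQCoh_unit _, TMul.isFT_structureModule _⟩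
    refine ⟨n₀, fun k hk p => ?_⟩
    obtain ⟨e⟩ := TMul.nonempty_restrictPowIso (π ⁻¹ᵁ V i).ι L k
    exact CohQC.hh_subsingleton_of_iso (TMul.leftUnitIso _ ≪≫ e) _ (hn₀ k hk p)
  choose n₀ hn₀ using key
  refine ⟨Finset.univ.sup n₀, directAcyclic_of_hh_vanish π _
    (TMul.isQCoh_of_isInvertible (TMul.isInvertible_tensorPow hL.1 _)) V hV
    (fun s => hcov s trivial) fun i p => hn₀ i _ (Finset.le_sup (Finset.mem_univ i)) p⟩

lemma nontrivial_stalk_push [IsIntegral X] (π : Y ⟶ X) {L : Y.Modules} (hL : PicF.IsInvertible L)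
    {U : X.Opens} (hU : (U : Set X).Nonempty) [IsIso (π ∣_ U)] :
    Nontrivial (((Scheme.Modules.pushforward π).obj L).presheaf.stalk (genericPoint X)) := by
  have hη : genericPoint X ∈ U :=
    let ⟨x, hx⟩ := hU
    (genericPoint_specializes x).mem_open U.2 hx
  obtain ⟨ξ, hξ⟩ : ∃ ξ : (π ⁻¹ᵁ U).toScheme, (π ∣_ U).base ξ = ⟨genericPoint X, hη⟩ :=
    ((Scheme.homeoOfIso (asIso (π ∣_ U))).surjective _)
  obtain ⟨O, e, hξO, he⟩ := TMul.exists_isGen hL ξ.1
  -- `O` contains the preimage of an open around the generic point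
  have hop : IsOpen ((π ∣_ U).base '' ((π ⁻¹ᵁ U).ι ⁻¹ᵁ O : Set (π ⁻¹ᵁ U).toScheme)) :=
    (Scheme.homeoOfIso (asIso (π ∣_ U))).isOpenMap _ ((π ⁻¹ᵁ U).ι ⁻¹ᵁ O).2
  let W : X.Opens := U.ι ''ᵁ ⟨_, hop⟩
  have hW : π ⁻¹ᵁ W ≤ O := by
    rintro y ⟨w, ⟨z, hz, rfl⟩, hwy⟩
    have hyU : y ∈ π ⁻¹ᵁ U := by
      change π.base y ∈ U
      rw [← hwy]
      exact ((π ∣_ U).base z).2
    have : (π ∣_ U).base z = (π ∣_ U).base ⟨y, hyU⟩ := Subtype.ext
      ((hwy : ((π ∣_ U).base z).1 = π.base y).trans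
        (congrArg (fun g : (π ⁻¹ᵁ U).toScheme ⟶ X => g.base ⟨y, hyU⟩) (morphismRestrict_ι π U)).symm)
    have hzy := (Scheme.homeoOfIso (asIso (π ∣_ U))).injective this
    subst hzy
    exact hz
  have hηW : genericPoint X ∈ W := ⟨⟨_, hη⟩, ⟨ξ, hξO, hξ⟩, rfl⟩
  refine not_subsingleton_iff_nontrivial.mp fun hsub => ?_
  let e' : Γ((Scheme.Modules.pushforward π).obj L, W) := res L hW e
  obtain ⟨W', hηW', i₁, i₂, hz⟩ := TopCat.Presheaf.germ_eq (C := Ab.{u})
    ((Scheme.Modules.pushforward π).obj L).presheaf (genericPoint X) hηW hηW e' 0 (hsub.elim _ _)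
  have h0 : res L ((π.preimage_mono (leOfHom i₁)).trans hW) e = 0 := by
    refine Eq.trans ?_ (hz.trans (map_zero _))
    exact (res_res L (π.preimage_mono (leOfHom i₁)) hW e).symm
  have hξW' : ξ.1 ∈ π ⁻¹ᵁ W' := by
    change π.base ξ.1 ∈ W'
    have := congrArg (fun g : (π ⁻¹ᵁ U).toScheme ⟶ X => g.base ξ) (morphismRestrict_ι π U)
    exact (show π.base ξ.1 = genericPoint X from this.symm.trans (congrArg Subtype.val hξ)) ▸ hηW'
  have h1 : (1 : Γ(Y, π ⁻¹ᵁ W')) = 0 := (he _ ((π.preimage_mono (leOfHom i₁)).trans hW)).1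
    (by simp only [h0, smul_zero])
  have h2 := congrArg (Y.presheaf.germ (π ⁻¹ᵁ W') ξ.1 hξW') h1
  rw [map_one, map_zero] at h2
  exact one_ne_zero h2

variable (A : Type u) [CommRing A] [IsNoetherianRing A]

/-- Some coherent module with nonzero generic stalk has finite cohomology. -/
theorem exists_finite_module [X.Over (Spec (CommRingCat.of A))] [IsProper (X ↘ Spec (CommRingCat.of A))]
    [IsIntegral X] : ∃ H : X.Modules, Coh.IsCoh H ∧ Nontrivial (H.presheaf.stalk (genericPoint X)) ∧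
      ∀ q, Module.Finite A (Coh.HH X H q) := by
  have : IsLocallyNoetherian X := LocallyOfFiniteType.isLocallyNoetherian (X ↘ Spec (CommRingCat.of A))
  have : CompactSpace X := QuasiCompact.compactSpace_of_compactSpace (X ↘ Spec (CommRingCat.of A))
  have : IsNoetherian X := {}
  obtain ⟨N, X', π, j, hj, hjf, hπ, -, U, hU, hiso, -⟩ := Chow.exists_chow (X ↘ Spec (CommRingCat.of A))
    TopologicalSpace.NoetherianSpace.finite_irreducibleComponents
  let : X'.Over (Spec (CommRingCat.of A)) := ⟨π ≫ (X ↘ Spec (CommRingCat.of A))⟩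
  have : IsProper (X' ↘ Spec (CommRingCat.of A)) := by
    change IsProper (π ≫ (X ↘ Spec (CommRingCat.of A)))
    infer_instance
  have : CompactSpace X' := QuasiCompact.compactSpace_of_compactSpace (X' ↘ Spec (CommRingCat.of A))
  have : IsLocallyNoetherian X' := LocallyOfFiniteType.isLocallyNoetherian (X' ↘ Spec (CommRingCat.of A))
  let L := (Scheme.Modules.pullback j).obj (Twist.twistOver N (Spec (CommRingCat.of A)) 1)
  have hL : CohB1.IsAmple L := ProjMor.isAmple_of_isRelVeryAmplePn (π ≫ (X ↘ Spec (CommRingCat.of A)))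
    ⟨N, j, hj, hjf, ⟨Iso.refl _⟩⟩
  obtain ⟨k, hk⟩ := exists_directAcyclic_pow π hL
  have hG : Coh.IsCoh (CohB1.tensorPow L k) :=
    ⟨TMul.isQCoh_of_isInvertible (TMul.isInvertible_tensorPow hL.1 k),
      TMul.isFT_of_isInvertible (TMul.isInvertible_tensorPow hL.1 k)⟩
  refine ⟨(Scheme.Modules.pushforward π).obj (CohB1.tensorPow L k), isCoh_push π (L := L) (fun V hV => ?_) hG,
    nontrivial_stalk_push π (TMul.isInvertible_tensorPow hL.1 k) hU.nonempty,
    fun q => (finite_push_iff A π rfl _ hk q).1 (finite_ample A hL hG q)⟩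
  have : CompactSpace (π ⁻¹ᵁ V).toScheme :=
    isCompact_iff_compactSpace.mp (π.isCompact_preimage hV.isCompact)
  exact TMul.isAmple_restrict _ hL

/-- Finiteness of coherent cohomology for proper schemes. -/
theorem finite_proper (X : Scheme.{u}) [X.Over (Spec (CommRingCat.of A))]
    [IsProper (X ↘ Spec (CommRingCat.of A))] (M : X.Modules) (hM : Coh.IsCoh M) (q : ℕ) :
    Module.Finite A (Coh.HH X M q) := by
  have : IsLocallyNoetherian X := LocallyOfFiniteType.isLocallyNoetherian (X ↘ Spec (CommRingCat.of A))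
  have : CompactSpace X := QuasiCompact.compactSpace_of_compactSpace (X ↘ Spec (CommRingCat.of A))
  have : IsNoetherian X := {}
  rcases isEmpty_or_nonempty X with hX | hX
  · have hz : IsZero M := GrT.isZero_modules_of_subsingleton fun U s =>
      Groth.Agent.QC.section_eq_of_locally fun x _ => (IsEmpty.false x).elim
    have := subsingleton_of_split M (ι := Empty) (fun e => e.elim) (fun e => e.elim) (fun e => e.elim)
      (hz.eq_of_src _ _) q (fun e => e.elim)
    exact Module.Finite.of_finite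
  revert q
  refine Devissage.roots (fun M => ∀ q, Module.Finite A (Coh.HH X M q))
    (fun M N ⟨e⟩ h q => have := h q; Module.Finite.equiv (hhEquiv A e q))
    (fun S hS _ _ _ => ⟨fun h₂ h₃ => finite_of_shortExact_left A hS h₂ h₃,
      fun h₁ h₃ q => have := h₁ q; have := h₃ q; finite_of_shortExact_mid A hS q⟩)
    (fun F d hd _ h q => have := h q;
      finite_of_retract A (Sigma.ι (fun _ : Fin d => F) ⟨0, hd⟩) (Sigma.desc fun _ => 𝟙 F)
        (Sigma.ι_desc _ _) q)
    (fun Z i _ _ => ?_) M hM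
  let : Z.Over (Spec (CommRingCat.of A)) := ⟨i ≫ (X ↘ Spec (CommRingCat.of A))⟩
  have : IsProper (Z ↘ Spec (CommRingCat.of A)) := by
    change IsProper (i ≫ (X ↘ Spec (CommRingCat.of A)))
    infer_instance
  obtain ⟨H, hH, hn, hK⟩ := exists_finite_module (X := Z) A
  have : H.IsQuasicoherent := hH.1
  exact ⟨H, hH, hn, fun q => (finite_push_iff A i rfl H (CohQC.directAcyclic_of_isAffineHom i H) q).1 (hK q)⟩

end Groth.Agent.CohFinite
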