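import Groth.Agent.CohFinite.Serre
import Groth.Agent.TMul.AmpleBasis
import Groth.Agent.TMul.Pullback
import Groth.Agent.ProjMor.Sym
import Groth.Agent.ProjMor.Over
import Groth.Agent.CohQC.Push
import Groth.Agent.S0012
import Mathlib.AlgebraicGeometry.Morphisms.Proper

/-!
Serre vanishing for an ample module on a scheme proper over a Noetherian affine scheme.
-/

universe u

open CategoryTheory CategoryTheory.Limits Opposite TopologicalSpace AlgebraicGeometry
open TMul (val homOf val_homOf)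

set_option backward.isDefEq.respectTransparency false

noncomputable section

namespace Groth.Agent.CohFinite

variable {Y : Scheme.{u}}

lemma homOf_val {L : Y.Modules} (t : Coh.structureModule Y ⟶ L) : homOf (val t ⊤) = t :=
  TMul.hom_ext_val ((val_homOf _ _).trans (Groth.Agent.QC.res_self _ _ _))

variable {R : Type u} [CommRing R]

/-- A power of an ample module is pulled back from projective space by a finite morphism. -/
theorem exists_finite_projSpace (q : Y ⟶ Spec (CommRingCat.of R)) [IsProper q] {L : Y.Modules}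
    (hL : CohB1.IsAmple L) :
    ∃ (n d : ℕ) (r : Y ⟶ CohB1.ProjSpace n R), 0 < d ∧ r ≫ CohB1.ProjSpace.toSpec n R = q ∧ IsFinite r ∧
      Nonempty ((Scheme.Modules.pullback r).obj (Twist.twistProjSpace n R 1) ≅ CohB1.tensorPow L d) := by
  classical
  have := hL.2.1
  choose d t hxt hta using hL.2.2
  obtain ⟨T, hT⟩ := isCompact_univ.elim_finite_subcover
    (fun x : Y => ((CohB1.genLocus _ (t x) : Y.Opens) : Set Y)) (fun x => (CohB1.genLocus _ (t x)).2)
    (fun x _ => Set.mem_iUnion.mpr ⟨x, hxt x⟩)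
  obtain ⟨N, hN⟩ : ∃ N, N + 1 = ∏ x ∈ T, (d x + 1) :=
    ⟨∏ x ∈ T, (d x + 1) - 1, Nat.sub_add_cancel (Finset.prod_pos fun _ _ => Nat.succ_pos _)⟩
  choose t' ht' using fun x : T => TMul.exists_genLocus_pow hL.1 (hN ▸ Finset.dvd_prod_of_mem _ x.2) (t x)
  let M := CohB1.tensorPow L (N + 1)
  let n := T.card
  let s : Fin (n + 1) → ProjUP.Γm M :=
    Fin.cons (if h : T.Nonempty then val (t' ⟨h.choose, h.choose_spec⟩) ⊤ else (0 : Γ(M, ⊤)))
      fun k => val (t' (T.equivFin.symm k)) ⊤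
  have hs : ∀ i, IsAffineOpen (CohB1.genLocus M (homOf (s i))) := by
    refine Fin.cases ?_ (fun k => ?_)
    · simp only [s, Fin.cons_zero]
      split_ifs with h
      · rw [homOf_val, ht']
        exact hta _
      · have : IsEmpty Y := ⟨fun x => by
          obtain ⟨y, hy, -⟩ := Set.mem_iUnion₂.mp (hT (Set.mem_univ x))
          exact h ⟨y, hy⟩⟩
        rw [Subsingleton.elim (CohB1.genLocus M _) ⊥]
        exact isAffineOpen_bot Y
    · simp only [s, Fin.cons_succ]
      rw [homOf_val, ht']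
      exact hta _
  have hcov : ∀ x : Y, ∃ i, x ∈ CohB1.genLocus M (homOf (s i)) := fun x => by
    obtain ⟨y, hy, hxy⟩ := Set.mem_iUnion₂.mp (hT (Set.mem_univ x))
    refine ⟨(T.equivFin ⟨y, hy⟩).succ, ?_⟩
    simp only [s, Fin.cons_succ, Equiv.symm_apply_apply]
    rw [homOf_val, ht']
    exact hxy
  obtain ⟨r, hr, τ, hτ⟩ := ProjMor.exists_projSpace q (TMul.isInvertible_tensorPow hL.1 (N + 1)) s
    (ProjMor.generatedBy_of_mem_genLocus s hcov)
  refine ⟨n, N + 1, r, Nat.succ_pos _, hr, IsFinite.iff_isProper_and_isAffineHom.mpr ⟨?_, ?_⟩, ⟨τ⟩⟩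
  · have := ProjMor.isProper_toSpec n R
    have : IsProper (r ≫ CohB1.ProjSpace.toSpec n R) := by rw [hr]; infer_instance
    exact IsProper.of_comp r (CohB1.ProjSpace.toSpec n R)
  · refine isAffineHom_of_forall_exists_isAffineOpen r fun x => ?_
    obtain ⟨i, hi⟩ := Opens.mem_iSup.1 ((Groth.Agent.S9576.result n R).1.ge (trivial : x ∈ ⊤))
    refine ⟨_, hi, ProjLib.isAffineOpen_basicOpen _ (MvPolynomial.isHomogeneous_X R i) one_pos, ?_⟩
    have e : CohB1.genLocus M (homOf (s i)) = r ⁻¹ᵁ Proj.basicOpen (CohB1.polyGrading n R) (MvPolynomial.X i) := by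
      rw [← hτ i, ProjMor.homOf_app, TMul.genLocus_comp]
      exact ProjMor.genLocus_pull1 (ProjMor.genDegOne_projSpace n R) r (MvPolynomial.isHomogeneous_X R i)
    exact e ▸ hs i

lemma exists_genLocus_twistPow (n : ℕ) (R : Type u) [CommRing R] (m : ℕ) :
    ∃ s : Fin (n + 1) → Γ(CohB1.tensorPow (Twist.twistProjSpace n R 1) (m + 1), ⊤),
      ∀ y, ∃ i, y ∈ CohB1.genLocus _ (homOf (s i)) := by
  choose t ht using fun i : Fin (n + 1) => TMul.exists_genLocus_pow (isInvertible_twist n R 1)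
    (one_dvd (m + 1)) (n := 0) (homOf (show Γ(Twist.twistProjSpace n R 1, ⊤) from ProjUP.coord n R i) ≫
      (TMul.leftUnitIso (Twist.twistProjSpace n R 1)).inv)
  refine ⟨fun i => val (t i) ⊤, fun y => ?_⟩
  obtain ⟨i, hi⟩ := Opens.mem_iSup.1 ((Groth.Agent.S9576.result n R).1.ge (trivial : y ∈ ⊤))
  refine ⟨i, ?_⟩
  rw [homOf_val, ht, TMul.genLocus_comp]
  exact (ProjMor.genLocus_sec1 (ProjMor.genDegOne_projSpace n R) (MvPolynomial.isHomogeneous_X R i)).ge hi

theorem nonempty_pushTensor {n : ℕ} (r : Y ⟶ CohB1.ProjSpace n R) (F : Y.Modules) (m : ℕ) :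
    Nonempty (CohB1.tensorMod ((Scheme.Modules.pushforward r).obj F)
        (CohB1.tensorPow (Twist.twistProjSpace n R 1) (m + 1)) ≅
      (Scheme.Modules.pushforward r).obj (CohB1.tensorMod F
        ((Scheme.Modules.pullback r).obj (CohB1.tensorPow (Twist.twistProjSpace n R 1) (m + 1))))) := by
  obtain ⟨s, hs⟩ := exists_genLocus_twistPow n R m
  have := isIso_projMap r F _ (isInvertible_twistPow n R (m + 1)) s hs
  exact ⟨asIso (projMap r F _)⟩

variable [IsNoetherianRing R]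

/-- Serre vanishing for an ample module. -/
theorem vanish_ample (q : Y ⟶ Spec (CommRingCat.of R)) [IsProper q] {L : Y.Modules}
    (hL : CohB1.IsAmple L) {M : Y.Modules} (hM : Coh.IsCoh M) :
    ∃ n₀ : ℕ, ∀ k, n₀ ≤ k → ∀ p : ℕ,
      Subsingleton (Coh.HH Y (CohB1.tensorMod M (CohB1.tensorPow L k)) (p + 1)) := by
  obtain ⟨n, d, r, hd, hr, hfin, ⟨τ⟩⟩ := exists_finite_projSpace q hL
  have := isNoetherian_projSpace n R
  have hMj : ∀ j, Coh.IsCoh (CohB1.tensorMod M (CohB1.tensorPow L j)) := fun j =>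
    isCoh_tensor hM (TMul.isInvertible_tensorPow hL.1 j)
  have hG : ∀ j, Coh.IsCoh ((Scheme.Modules.pushforward r).obj (CohB1.tensorMod M (CohB1.tensorPow L j))) :=
    fun j => have : (CohB1.tensorMod M (CohB1.tensorPow L j)).IsQuasicoherent := (hMj j).1
      Groth.Agent.QC.isCoh_pushforward_of_isFinite r (hMj j).2
  choose m₀ hm₀ using fun j => vanish_projSpace n R _ (hG j)
  refine ⟨d * ((Finset.range d).sup m₀ + 1), fun k hk p => ?_⟩
  obtain ⟨m, j, hj, rfl⟩ : ∃ m j, j < d ∧ k = j + d * (m + 1) := by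
    have h1 : (Finset.range d).sup m₀ + 1 ≤ k / d := (Nat.le_div_iff_mul_le hd).2 (by rwa [Nat.mul_comm])
    exact ⟨k / d - 1, k % d, Nat.mod_lt _ hd, by
      rw [Nat.sub_add_cancel (by omega : 1 ≤ k / d)]; exact (Nat.mod_add_div k d).symm⟩
  have hm : m₀ j ≤ m + 1 := by
    refine le_trans (Finset.le_sup (Finset.mem_range.mpr hj)) ?_
    by_contra hlt
    have h2 : (m + 1 + 1) * d ≤ (Finset.range d).sup m₀ * d := Nat.mul_le_mul_right d (by omega)
    rw [Nat.mul_add, Nat.mul_one, Nat.mul_comm] at hk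
    rw [Nat.add_mul, Nat.one_mul, Nat.mul_comm (m + 1) d] at h2
    omega
  obtain ⟨a₁⟩ := TMul.nonempty_powMulIso L d (m + 1)
  obtain ⟨a₂⟩ := TMul.nonempty_powAddIso L j (d * (m + 1))
  obtain ⟨a₃⟩ := TMul.nonempty_pullPowIso r (Twist.twistProjSpace n R 1) (m + 1)
  obtain ⟨a₄⟩ := nonempty_pushTensor r (CohB1.tensorMod M (CohB1.tensorPow L j)) m
  let K := CohB1.tensorPow (Twist.twistProjSpace n R 1) (m + 1)
  obtain ⟨b₁⟩ : Nonempty (CohB1.tensorPow ((Scheme.Modules.pullback r).obj (Twist.twistProjSpace n R 1)) (m + 1) ≅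
      CohB1.tensorPow (CohB1.tensorPow L d) (m + 1)) :=
    TMul.nonempty_powCongr τ (m + 1)
  let e : CohB1.tensorMod M (CohB1.tensorPow L (j + d * (m + 1))) ≅
      CohB1.tensorMod (CohB1.tensorMod M (CohB1.tensorPow L j)) ((Scheme.Modules.pullback r).obj K) :=
    PicGrp.tensorModIso (Iso.refl M) a₂.symm ≪≫ (TMul.assocIso _ _ _).symm ≪≫
      PicGrp.tensorModIso (Iso.refl _) (a₁.symm ≪≫ b₁.symm ≪≫ a₃)
  refine CohQC.hh_subsingleton_of_iso e.symm _ ?_
  have hq : Coh.IsQCoh (CohB1.tensorMod (CohB1.tensorMod M (CohB1.tensorPow L j)) ((Scheme.Modules.pullback r).obj K)) :=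
    (isCoh_tensor (hMj j) (PicLoc.isInvertible_pullback r (isInvertible_twistPow n R (m + 1)))).1
  obtain ⟨ψ⟩ := Groth.Agent.S0012.result r
    (CohB1.tensorMod (CohB1.tensorMod M (CohB1.tensorPow L j)) ((Scheme.Modules.pullback r).obj K)) (p + 1)
  have := CohQC.hh_subsingleton_of_iso a₄ _ (hm₀ j (m + 1) hm p)
  exact ψ.toEquiv.subsingleton

end Groth.Agent.CohFinite
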