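import Groth.Agent.CohFinite.PushLinear
import Groth.Agent.CohFinite.Ample
import Groth.Agent.QC.Localisation
import Groth.Agent.TMul.Pullback
import Groth.Agent.QC.Coherent

/-!
Finiteness of coherent cohomology for schemes with an ample module, proper over a Noetherian affine scheme.
-/

universe u

open CategoryTheory CategoryTheory.Limits Opposite TopologicalSpace AlgebraicGeometry
open Groth.Agent.SiteCoh
open Groth.Agent.QC (res resO res_res res_smul res_self)

set_option backward.isDefEq.respectTransparency false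

noncomputable section

namespace Groth.Agent.CohFinite

/-- Finiteness of cohomology in the presence of an ample module. -/
theorem finite_ample (A : Type u) [CommRing A] [IsNoetherianRing A] {Y : Scheme.{u}}
    [Y.Over (Spec (CommRingCat.of A))] [IsProper (Y ↘ Spec (CommRingCat.of A))] {L : Y.Modules}
    (hL : CohB1.IsAmple L) {M : Y.Modules} (hM : Coh.IsCoh M) (q : ℕ) :
    Module.Finite A (Coh.HH Y M q) := by
  obtain ⟨n, d, r, -, hr, hfin, -⟩ := exists_finite_projSpace (Y ↘ Spec (CommRingCat.of A)) hL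
  have : M.IsQuasicoherent := hM.1
  refine (finite_push_iff A r hr M (CohQC.directAcyclic_of_isAffineHom r M) q).2 ?_
  exact finite_projSpace n A _ (Groth.Agent.QC.isCoh_pushforward_of_isFinite r hM.2) q

/-- Global sections as cohomology in degree zero. -/
theorem exists_zero_equiv {X : Scheme.{u}} (A : Type u) [CommRing A] [X.Over (Spec (CommRingCat.of A))]
    (M : X.Modules) : ∃ e : Coh.HH X M 0 ≃+ Γ(M, ⊤), ∀ (a : A) (x : Coh.HH X M 0),
      e (a • x) = (show Γ(X, ⊤) from Coh.toGlobal (X ↘ Spec (CommRingCat.of A)) a) • e x := by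
  let e := (huTerminalEquiv (Opens.grothendieckTopology X) (T := (⊤ : Opens X)) isTerminalTop (Coh.toAb M) 0).trans
    (hu0 (Coh.toAb M) (⊤ : Opens X))
  refine ⟨e, fun a x => ?_⟩
  let g := Coh.toGlobal (X ↘ Spec (CommRingCat.of A)) a
  change hu0 (Coh.toAb M) (⊤ : Opens X) (huTerminalEquiv (Opens.grothendieckTopology X) isTerminalTop (Coh.toAb M) 0
    (Sheaf.H.map (Coh.smulAb M g) 0 x)) = _
  rw [ProjCech.huTerminalEquiv_natural, hu0_natural]
  refine congrArg (fun c : Γ(X, ⊤) => c • (show Γ(M, ⊤) from e x)) ?_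
  exact Groth.Agent.QC.resO_self le_rfl g

variable {X Y : Scheme.{u}}

/-- Sections over an affine open of the direct image of a coherent module under a map which is
projective over it are finite. -/
theorem finite_sections_push [IsLocallyNoetherian X] (π : Y ⟶ X) [IsProper π] {V : X.Opens}
    (hV : IsAffineOpen V) {L : Y.Modules} (hL : CohB1.IsAmple (L.restrict (π ⁻¹ᵁ V).ι)) {G : Y.Modules}
    (hG : Coh.IsCoh G) : Module.Finite Γ(X, V) Γ((Scheme.Modules.pushforward π).obj G, V) := by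
  have : IsNoetherianRing Γ(X, V) := IsLocallyNoetherian.component_noetherian ⟨V, hV⟩
  let : (π ⁻¹ᵁ V).toScheme.Over (Spec (CommRingCat.of Γ(X, V))) := ⟨(π ∣_ V) ≫ hV.isoSpec.hom⟩
  have hp : IsProper (π ∣_ V) := IsZariskiLocalAtTarget.restrict (P := @IsProper) ‹_› V
  have : IsProper ((π ⁻¹ᵁ V).toScheme ↘ Spec (CommRingCat.of Γ(X, V))) := by
    change IsProper ((π ∣_ V) ≫ hV.isoSpec.hom)
    infer_instance
  have hG' : Coh.IsCoh (G.restrict (π ⁻¹ᵁ V).ι) :=
    ⟨Groth.Agent.QC.isQCoh_restrict _ hG.1, Groth.Agent.QC.isFT_restrict _ hG.2⟩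
  obtain ⟨T, hT⟩ := (finite_ample Γ(X, V) hL hG' 0).fg_top
  obtain ⟨e, he⟩ := exists_zero_equiv Γ(X, V) (G.restrict (π ⁻¹ᵁ V).ι)
  have heq : (π ⁻¹ᵁ V).ι ''ᵁ ⊤ = π ⁻¹ᵁ V := by
    rw [Scheme.Hom.image_top_eq_opensRange, Scheme.Opens.opensRange_ι]
  let ρ : Γ(G.restrict (π ⁻¹ᵁ V).ι, ⊤) → Γ((Scheme.Modules.pushforward π).obj G, V) :=
    fun s => res G heq.ge s
  have hρ : ∀ (a : Γ(X, V)) (x : Coh.HH (π ⁻¹ᵁ V).toScheme (G.restrict (π ⁻¹ᵁ V).ι) 0),
      ∃ b : Γ(X, V), ρ (e (a • x)) = b • ρ (e x) := fun a x => by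
    let g : Γ((π ⁻¹ᵁ V).toScheme, ⊤) :=
      Coh.toGlobal ((π ⁻¹ᵁ V).toScheme ↘ Spec (CommRingCat.of Γ(X, V))) a
    obtain ⟨c, hc⟩ : ∃ c, g = (π ∣_ V).appTop c := ⟨_, rfl⟩
    have hVtop : V.ι ''ᵁ ⊤ = V := by rw [Scheme.Hom.image_top_eq_opensRange, Scheme.Opens.opensRange_ι]
    refine ⟨resO X hVtop.ge c, ?_⟩
    rw [he]
    have hsm : ∀ (k : Γ((π ⁻¹ᵁ V).toScheme, ⊤)) (m : Γ(G.restrict (π ⁻¹ᵁ V).ι, ⊤)),
        res G heq.ge ((G.restrictAppIso (π ⁻¹ᵁ V).ι ⊤).hom (k • m)) =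
          resO Y heq.ge (show Γ(Y, (π ⁻¹ᵁ V).ι ''ᵁ ⊤) from k) •
            res G heq.ge ((G.restrictAppIso (π ⁻¹ᵁ V).ι ⊤).hom m) := fun k m => by
      refine (congrArg (res G heq.ge) (G.smul_restrictAppIso_hom_apply (π ⁻¹ᵁ V).ι ⊤ k m)).trans ?_
      refine (res_smul G heq.ge _ _).trans ?_
      refine congrArg (fun z : Γ(Y, π ⁻¹ᵁ V) => z • res G heq.ge ((G.restrictAppIso (π ⁻¹ᵁ V).ι ⊤).hom m)) ?_
      rw [Scheme.Opens.ι_appIso]
      rfl
    refine (hsm g (e x)).trans ?_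
    refine congrArg (fun k : Γ(Y, π ⁻¹ᵁ V) => k • (res G heq.ge ((G.restrictAppIso (π ⁻¹ᵁ V).ι ⊤).hom (e x)) : Γ(G, π ⁻¹ᵁ V))) ?_
    rw [hc, morphismRestrict_appTop]
    change resO Y _ (Y.presheaf.map _ (π.app _ c)) = π.app V (X.presheaf.map _ c)
    refine Eq.trans ?_ (ConcreteCategory.congr_hom (π.naturality _) c).symm
    exact (ConcreteCategory.congr_hom (Y.presheaf.map_comp _ _) _).symm
  classical
  refine ⟨⟨(T.image fun x => ρ (e x)), eq_top_iff.2 fun s hs => ?_⟩⟩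
  clear hs
  obtain ⟨x, hx⟩ : ∃ x, ρ (e x) = s := ⟨e.symm (res G heq.le s), by
    simp only [ρ, AddEquiv.apply_symm_apply]
    exact (res_res G heq.ge heq.le s).trans (res_self G le_rfl s)⟩
  subst hx
  have hx : x ∈ Submodule.span Γ(X, V) (T : Set (Coh.HH (π ⁻¹ᵁ V).toScheme (G.restrict (π ⁻¹ᵁ V).ι) 0)) := by
    rw [hT]; trivial
  induction hx using Submodule.span_induction with
  | mem y hy => exact Submodule.subset_span (Finset.mem_coe.2 (Finset.mem_image_of_mem _ hy))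
  | zero => simp only [ρ, map_zero]; exact Submodule.zero_mem _
  | add y z _ _ hy hz => simp only [ρ, map_add] at hy hz ⊢; exact Submodule.add_mem _ hy hz
  | smul a y _ hy =>
    obtain ⟨b, hb⟩ := hρ a y
    rw [hb]
    exact Submodule.smul_mem _ b hy

/-- The direct image of a coherent module is coherent if an ample module exists locally on the base. -/
theorem isCoh_push [IsLocallyNoetherian X] (π : Y ⟶ X) [IsProper π] {L : Y.Modules}
    (hL : ∀ V : X.Opens, IsAffineOpen V → CohB1.IsAmple (L.restrict (π ⁻¹ᵁ V).ι)) {G : Y.Modules}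
    (hG : Coh.IsCoh G) : Coh.IsCoh ((Scheme.Modules.pushforward π).obj G) := by
  have : G.IsQuasicoherent := hG.1
  exact Groth.Agent.QC.isCoh_iff_finite_sections.mpr
    ⟨Groth.Agent.QC.isQCoh_pushforward π, fun V => finite_sections_push π V.2 (hL V.1 V.2) hG⟩

end Groth.Agent.CohFinite
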