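import Groth.Agent.SiteCoh.ShiftCompare
import Groth.Agent.ProjCech.CompareNat

/-!
The comparison of cohomology along a functor exact on a class of sheaves, natural in the sheaf.
-/

universe u

open CategoryTheory Category Limits Opposite Abelian
open Groth.Agent.SiteCoh Groth.Agent.ProjCech

noncomputable section

namespace Groth.Agent.CohFinite

variable {C : Type u} [SmallCategory C] {J : GrothendieckTopology C}

lemma hu0_symm_secEquiv (F : Sheaf J AddCommGrpCat.{u}) (U : C) (β : CohCx.freeSheaf J U ⟶ F) :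
    (hu0 F U).symm (secEquiv U F β) = Ext.mk₀ β := by
  rw [AddEquiv.symm_apply_eq]
  change _ = secEquiv U F (Ext.addEquiv₀ (Ext.mk₀ β))
  exact congrArg _ (Ext.addEquiv₀.apply_symm_apply β).symm

lemma hu0_symm_natural {F G : Sheaf J AddCommGrpCat.{u}} (f : F ⟶ G) (U : C) (t : F.obj.obj (op U)) :
    (hu0 G U).symm (f.hom.app (op U) t) = huMap U f 0 ((hu0 F U).symm t) := by
  obtain ⟨α, rfl⟩ := (secEquiv U F).surjective t
  rw [← secEquiv_comp, hu0_symm_secEquiv, hu0_symm_secEquiv]
  exact (Ext.mk₀_comp_mk₀ α f).symm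

lemma hu0_natural {F G : Sheaf J AddCommGrpCat.{u}} (f : F ⟶ G) (U : C) (x : CohSite.HU F 0 U) :
    hu0 G U (huMap U f 0 x) = f.hom.app (op U) (hu0 F U x) := by
  obtain ⟨t, rfl⟩ := (hu0 F U).symm.surjective x
  rw [← hu0_symm_natural, AddEquiv.apply_symm_apply, AddEquiv.apply_symm_apply]

/-- Sections of a quotient to first cohomology. -/
def presMap {S : ShortComplex (Sheaf J AddCommGrpCat.{u})} (hS : S.ShortExact) (U : C) :
    S.X₃.obj.obj (op U) →+ Ext (CohCx.freeSheaf J U) S.X₁ 1 :=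
  (hS.extClass.postcomp (CohCx.freeSheaf J U) (zero_add 1)).comp (hu0 S.X₃ U).symm.toAddMonoidHom

lemma presMap_spec {S : ShortComplex (Sheaf J AddCommGrpCat.{u})} (hS : S.ShortExact) (U : C)
    (hX : Subsingleton (Ext (CohCx.freeSheaf J U) S.X₂ 1)) :
    Function.Surjective (presMap hS U) ∧
      ∀ x, presMap hS U x = 0 ↔ ∃ y, S.g.hom.app (op U) y = x := by
  refine ⟨fun x => ?_, fun x => ⟨fun hx => ?_, ?_⟩⟩
  · obtain ⟨x₃, hx₃⟩ := Ext.covariant_sequence_exact₁ (CohCx.freeSheaf J U) hS (n₁ := 1) x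
      (Subsingleton.elim _ _) (zero_add 1)
    exact ⟨hu0 _ U x₃, by
      change ((hu0 _ U).symm (hu0 _ U x₃)).comp hS.extClass (zero_add 1) = x
      rw [AddEquiv.symm_apply_apply]; exact hx₃⟩
  · obtain ⟨x₂, hx₂⟩ := Ext.covariant_sequence_exact₃ (CohCx.freeSheaf J U) hS _ (zero_add 1) hx
    exact ⟨hu0 _ U x₂, ((hu0_natural S.g U x₂).symm.trans (congrArg (hu0 _ U) hx₂)).trans
      ((hu0 _ U).apply_symm_apply x)⟩
  · rintro ⟨y, rfl⟩
    change ((hu0 S.X₃ U).symm _).comp hS.extClass (zero_add 1) = 0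
    rw [hu0_symm_natural]
    change (Ext.comp _ (Ext.mk₀ S.g) (add_zero 0)).comp hS.extClass (zero_add 1) = 0
    rw [Ext.comp_assoc _ _ _ (add_zero 0) (zero_add 1) (by omega), hS.comp_extClass, Ext.comp_zero]

lemma equivOfKerEq_apply {A B B' : Type*} [AddCommGroup A] [AddCommGroup B] [AddCommGroup B']
    (f : A →+ B) (g : A →+ B') (hf : Function.Surjective f) (hg : Function.Surjective g)
    (h : ∀ x, f x = 0 ↔ g x = 0) (t : A) : equivOfKerEq f g hf hg h (f t) = g t := by
  simp only [equivOfKerEq, AddEquiv.trans_apply]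
  rw [show (QuotientAddGroup.quotientKerEquivOfSurjective f hf).symm (f t) = QuotientAddGroup.mk t from
    (AddEquiv.symm_apply_eq _).2 rfl]
  rfl

variable {C' : Type u} [SmallCategory C'] {J' : GrothendieckTopology C'}
  (R : Sheaf J AddCommGrpCat.{u} ⥤ Sheaf J' AddCommGrpCat.{u}) [R.PreservesZeroMorphisms]
  {U : C} {U' : C'}
  (e : ∀ F : Sheaf J AddCommGrpCat.{u}, F.obj.obj (op U) ≃+ (R.obj F).obj.obj (op U'))
  (he : ∀ {F G : Sheaf J AddCommGrpCat.{u}} (f : F ⟶ G) (s : F.obj.obj (op U)),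
    e G (f.hom.app (op U) s) = (R.map f).hom.app (op U') (e F s))

include e he in
/-- The comparison, natural in the sheaf. -/
theorem hu_compare_class_natural (P : Sheaf J AddCommGrpCat.{u} → Prop)
    (hS : ∀ F, P F → ((embedSeq F).map R).ShortExact)
    (hI : ∀ (I : Sheaf J AddCommGrpCat.{u}), Injective I → ∀ q, Subsingleton (CohSite.HU (R.obj I) (q + 1) U'))
    (hquot : ∀ F, P F → P (embedSeq F).X₃) (n : ℕ) :
    ∃ a : ∀ F : Sheaf J AddCommGrpCat.{u}, P F → (CohSite.HU F n U ≃+ CohSite.HU (R.obj F) n U'),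
      ∀ (F G : Sheaf J AddCommGrpCat.{u}) (hF : P F) (hG : P G) (f : F ⟶ G) (x : CohSite.HU F n U),
        a G hG (huMap U f n x) = huMap U' (R.map f) n (a F hF x) := by
  induction n with
  | zero =>
    refine ⟨fun F _ => ((hu0 F U).trans (e F)).trans (hu0 (R.obj F) U').symm, fun F G _ _ f x => ?_⟩
    simp only [AddEquiv.trans_apply]
    rw [hu0_natural, he, hu0_symm_natural]
  | succ n ih =>
    have hX : ∀ (F : Sheaf J AddCommGrpCat.{u}) q, Subsingleton (CohSite.HU (embedSeq F).X₂ (q + 1) U) :=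
      fun F q => subsingleton_ext_injective _ _ q
    have hX' : ∀ (F : Sheaf J AddCommGrpCat.{u}) q,
        Subsingleton (CohSite.HU ((embedSeq F).map R).X₂ (q + 1) U') :=
      fun F q => hI _ (embedSeq_injective F) q
    let φ' : ∀ {F G : Sheaf J AddCommGrpCat.{u}} (f : F ⟶ G), (embedSeq F).map R ⟶ (embedSeq G).map R :=
      fun f => R.mapShortComplex.map (embedMap f)
    rcases n with _ | n
    · let ψ := fun (F : Sheaf J AddCommGrpCat.{u}) => presMap (embedSeq_shortExact F) U
      let ψ' := fun (F : Sheaf J AddCommGrpCat.{u}) (hF : P F) => (presMap (hS F hF) U').comp (e (embedSeq F).X₃).toAddMonoidHom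
      have hψ : ∀ F, Function.Surjective (ψ F) := fun F => (presMap_spec _ U (hX F 0)).1
      have hψ' : ∀ F hF, Function.Surjective (ψ' F hF) := fun F hF =>
        (presMap_spec (hS F hF) U' (hX' F 0)).1.comp (e (embedSeq F).X₃).surjective
      have hk : ∀ F hF x, ψ F x = 0 ↔ ψ' F hF x = 0 := fun F hF x => by
        refine ((presMap_spec _ U (hX F 0)).2 x).trans (Iff.trans ?_ ((presMap_spec (hS F hF) U' (hX' F 0)).2 _).symm)
        constructor
        · rintro ⟨y, rfl⟩
          exact ⟨e (embedSeq F).X₂ y, (he (embedSeq F).g y).symm⟩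
        · rintro ⟨y, hy⟩
          refine ⟨(e (embedSeq F).X₂).symm y, (e (embedSeq F).X₃).injective ((he (embedSeq F).g _).trans ?_)⟩
          exact (congr_arg _ ((e (embedSeq F).X₂).apply_symm_apply y)).trans hy
      refine ⟨fun F hF => equivOfKerEq (ψ F) (ψ' F hF) (hψ F) (hψ' F hF) (hk F hF), fun F G hF hG f x => ?_⟩
      obtain ⟨t, rfl⟩ := hψ F x
      have h1 : huMap U f 1 (ψ F t) = ψ G ((embedMap f).τ₃.hom.app (op U) t) :=
        (postcomp_extClass_natural (embedSeq_shortExact F) (embedSeq_shortExact G) (embedMap f) (zero_add 1) _).symm.trans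
          (congrArg ((embedSeq_shortExact G).extClass.postcomp _ (zero_add 1))
            (hu0_symm_natural (embedMap f).τ₃ U t).symm)
      refine (congrArg (equivOfKerEq (ψ G) (ψ' G hG) (hψ G) (hψ' G hG) (hk G hG)) h1).trans ?_
      refine (equivOfKerEq_apply (ψ G) (ψ' G hG) (hψ G) (hψ' G hG) (hk G hG) _).trans ?_
      refine Eq.trans ?_ (congrArg (huMap U' (R.map f) 1)
        (equivOfKerEq_apply (ψ F) (ψ' F hF) (hψ F) (hψ' F hF) (hk F hF) t)).symm
      change (hS G hG).extClass.postcomp _ (zero_add 1) ((hu0 _ U').symm (e _ ((embedMap f).τ₃.hom.app (op U) t))) =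
        huMap U' (R.map f) 1 ((hS F hF).extClass.postcomp _ (zero_add 1) ((hu0 _ U').symm (e _ t)))
      rw [he]
      exact (congrArg ((hS G hG).extClass.postcomp _ (zero_add 1))
          (hu0_symm_natural (R.map (embedMap f).τ₃) U' _)).trans
        (postcomp_extClass_natural (hS F hF) (hS G hG) (φ' f) (zero_add 1) _)
    · obtain ⟨a, ha⟩ := ih
      let s : ∀ F : Sheaf J AddCommGrpCat.{u},
          CohSite.HU (embedSeq F).X₃ (n + 1) U ≃+ CohSite.HU F (n + 1 + 1) U := fun F =>
        haveI : Subsingleton (Ext (CohCx.freeSheaf J U) (embedSeq F).X₂ (n + 1)) := hX F n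
        haveI : Subsingleton (Ext (CohCx.freeSheaf J U) (embedSeq F).X₂ (n + 1 + 1)) := hX F (n + 1)
        shiftEquiv (embedSeq_shortExact F) (CohCx.freeSheaf J U) (n + 1)
      let s' : ∀ (F : Sheaf J AddCommGrpCat.{u}) (hF : P F),
          CohSite.HU (R.obj (embedSeq F).X₃) (n + 1) U' ≃+ CohSite.HU (R.obj F) (n + 1 + 1) U' := fun F hF =>
        haveI : Subsingleton (Ext (CohCx.freeSheaf J' U') ((embedSeq F).map R).X₂ (n + 1)) := hX' F n
        haveI : Subsingleton (Ext (CohCx.freeSheaf J' U') ((embedSeq F).map R).X₂ (n + 1 + 1)) := hX' F (n + 1)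
        shiftEquiv (hS F hF) (CohCx.freeSheaf J' U') (n + 1)
      refine ⟨fun F hF => ((s F).symm.trans (a _ (hquot F hF))).trans (s' F hF), fun F G hF hG f x => ?_⟩
      obtain ⟨w, rfl⟩ := (s F).surjective x
      simp only [AddEquiv.trans_apply, AddEquiv.symm_apply_apply]
      have h1 : huMap U f (n + 1 + 1) (s F w) = s G (huMap U (embedMap f).τ₃ (n + 1) w) :=
        (postcomp_extClass_natural (embedSeq_shortExact F) (embedSeq_shortExact G) (embedMap f) rfl w).symm
      rw [h1, AddEquiv.symm_apply_apply, ha _ _ (hquot F hF) (hquot G hG)]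
      exact postcomp_extClass_natural (hS F hF) (hS G hG) (φ' f) rfl _

end Groth.Agent.CohFinite
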