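import Groth.Agent.CohFinite.ClsNat
import Groth.Agent.ProjCech.CompareNat
import Groth.Agent.CohFinite.CompareNat
import Groth.Agent.CohFinite.AmpleFinite
import Groth.Agent.RPushQC.Resolution

/-!
Closed sections of a flasque resolution modulo exact ones are finitely generated when cohomology is.
-/

universe u

open CategoryTheory Category Limits Opposite TopologicalSpace AlgebraicGeometry Abelian
open Groth.Agent.SiteCoh Groth.Agent.CohQC Groth.Agent.ProjCech

set_option backward.isDefEq.respectTransparency false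

noncomputable section

namespace Groth.Agent.CohFinite

variable (A : Type u) [CommRing A] {Y : Scheme.{u}} [Y.Over (Spec (CommRingCat.of A))]

lemma app_toAb {M N : Y.Modules} (φ : M ⟶ N) (U : Y.Opens) (s : Γ(M, U)) :
    (toAbMap φ).hom.app (op U) s = φ.app U s := rfl

/-- Closed global sections are, up to exact ones, combinations of finitely many. -/
theorem exists_closed_generators (I : CochainComplex Y.Modules ℕ) (hex : ∀ m, I.ExactAt (m + 1))
    (hI : ∀ m, RPushQC.IsFlasque (I.X m)) (n : ℕ) [Module.Finite A (Coh.HH Y (I.cycles 0) n)] :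
    ∃ G : Finset Γ(I.X n, ⊤), (∀ s ∈ G, (I.d n (n + 1)).app ⊤ s = 0) ∧
      ∀ z : Γ(I.X n, ⊤), (I.d n (n + 1)).app ⊤ z = 0 → z ∈ AddSubgroup.closure
        ({x | ∃ (a : A), ∃ s ∈ G, x = (show Γ(Y, ⊤) from Coh.toGlobal (Y ↘ Spec (CommRingCat.of A)) a) • s} ∪
          Set.range fun w : Γ(I.X ((ComplexShape.up ℕ).prev n), ⊤) =>
            (I.d ((ComplexShape.up ℕ).prev n) n).app ⊤ w) := by
  classical
  let T := toAbF Y
  have : PreservesFiniteLimits T := inferInstance
  have : PreservesFiniteColimits T := CohQC.toSheaf_preservesFiniteColimits Y.ringCatSheaf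
  have : T.PreservesHomology := Functor.preservesHomologyOfExact T
  let K := (T.mapHomologicalComplex (ComplexShape.up ℕ)).obj I
  have hexK : ∀ m, K.ExactAt (m + 1) := fun m =>
    (HomologicalComplex.exactAt_iff K (m + 1)).mpr
      (((HomologicalComplex.exactAt_iff I (m + 1)).mp (hex m)).map T)
  have hK : ∀ (U : Y.Opens) (m : ℕ), Acyc U (K.X m) := fun U m p =>
    haveI := RPushQC.isFlasque_toAb (hI m)
    flasque_acyclic (Coh.toAb (I.X m)) U p
  let e₀ : K.cycles 0 ≅ T.obj (I.cycles 0) := (I.sc 0).mapCyclesIso T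
  have he₀ : e₀.hom ≫ T.map (I.iCycles 0) = K.iCycles 0 := (I.sc 0).mapCyclesIso_hom_iCycles T
  have : Mono (T.map (I.iCycles 0)) := inferInstance
  let E := huTerminalEquiv (Opens.grothendieckTopology Y) (T := (⊤ : Opens Y)) isTerminalTop
    (T.obj (I.cycles 0)) n
  let ψ : (K.cycles n).obj.obj (op (⊤ : Opens Y)) →+ Coh.HH Y (I.cycles 0) n :=
    (E.symm.toAddMonoidHom.comp (huMap (⊤ : Opens Y) e₀.hom n)).comp (clsAt K hexK n (⊤ : Opens Y))
  have huMap_id : ∀ {F G : Sheaf (Opens.grothendieckTopology Y) AddCommGrpCat.{u}} (a : F ≅ G) x,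
      huMap (⊤ : Opens Y) a.inv n (huMap (⊤ : Opens Y) a.hom n x) = x := fun a x => by
    change (Ext.comp x (Ext.mk₀ a.hom) (add_zero n)).comp (Ext.mk₀ a.inv) (add_zero n) = x
    rw [Ext.comp_assoc x _ _ (add_zero n) (add_zero 0) (by omega), Ext.mk₀_comp_mk₀, a.hom_inv_id,
      Ext.comp_mk₀_id]
  have hψs : Function.Surjective ψ := (E.symm.surjective.comp
    (fun y => ⟨huMap (⊤ : Opens Y) e₀.inv n y, huMap_id e₀.symm y⟩)).comp (clsAt_surjective K hexK hK n ⊤)
  have hψ0 : ∀ z, ψ z = 0 → clsAt K hexK n (⊤ : Opens Y) z = 0 := fun z hz => by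
    have h1 : huMap (⊤ : Opens Y) e₀.hom n (clsAt K hexK n (⊤ : Opens Y) z) = 0 :=
      E.symm.injective (hz.trans (map_zero E.symm).symm)
    rw [← huMap_id e₀ (clsAt K hexK n (⊤ : Opens Y) z), h1, map_zero]
  let sm : A → (K ⟶ K) := fun a =>
    { f := fun m => Coh.smulAb (I.X m) (Coh.toGlobal (Y ↘ Spec (CommRingCat.of A)) a)
      comm' := fun i j _ => smulAb_natural (I.d i j) _ }
  have hψsm : ∀ a z, ψ ((HomologicalComplex.cyclesMap (sm a) n).hom.app (op (⊤ : Opens Y)) z) = a • ψ z := by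
    intro a z
    let g := Coh.toGlobal (Y ↘ Spec (CommRingCat.of A)) a
    have h0 : HomologicalComplex.cyclesMap (sm a) 0 ≫ e₀.hom = e₀.hom ≫ Coh.smulAb (I.cycles 0) g := by
      rw [← cancel_mono (T.map (I.iCycles 0)), assoc, assoc, he₀, smulAb_natural (I.iCycles 0) g,
        ← assoc, he₀, HomologicalComplex.cyclesMap_i]
    change E.symm (huMap (⊤ : Opens Y) e₀.hom n (clsAt K hexK n (⊤ : Opens Y) _)) =
      Sheaf.H.map (Coh.smulAb (I.cycles 0) g) n (E.symm (huMap (⊤ : Opens Y) e₀.hom n (clsAt K hexK n ⊤ z)))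
    refine E.injective ?_
    rw [E.apply_symm_apply, huTerminalEquiv_natural, E.apply_symm_apply, clsAt_natural hexK hexK (sm a)]
    change (Ext.comp (Ext.comp _ (Ext.mk₀ _) (add_zero n)) (Ext.mk₀ _) (add_zero n)) =
      (Ext.comp (Ext.comp _ (Ext.mk₀ _) (add_zero n)) (Ext.mk₀ _) (add_zero n))
    rw [Ext.comp_assoc _ (Ext.mk₀ (HomologicalComplex.cyclesMap (sm a) 0)) (Ext.mk₀ e₀.hom)
        (add_zero n) (add_zero 0) (by omega),
      Ext.comp_assoc _ (Ext.mk₀ e₀.hom) (Ext.mk₀ (Coh.smulAb (I.cycles 0) g))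
        (add_zero n) (add_zero 0) (by omega),
      Ext.mk₀_comp_mk₀, Ext.mk₀_comp_mk₀, h0]
  obtain ⟨Gh, hGh⟩ := (‹Module.Finite A (Coh.HH Y (I.cycles 0) n)›).fg_top
  choose l hl using hψs
  let ι : (K.cycles n).obj.obj (op (⊤ : Opens Y)) →+ Γ(I.X n, ⊤) :=
    ((K.iCycles n).hom.app (op (⊤ : Opens Y))).hom
  have hιd : ∀ c, (I.d n (n + 1)).app ⊤ (ι c) = 0 := fun c =>
    ConcreteCategory.congr_hom (NatTrans.congr_app
      (congr_arg (fun (m : K.cycles n ⟶ K.X (n + 1)) => m.hom) (K.iCycles_d n (n + 1))) (op (⊤ : Opens Y))) c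
  have hιsm : ∀ a c, ι ((HomologicalComplex.cyclesMap (sm a) n).hom.app (op (⊤ : Opens Y)) c) =
      (show Γ(Y, ⊤) from Coh.toGlobal (Y ↘ Spec (CommRingCat.of A)) a) • ι c := fun a c => by
    refine (ConcreteCategory.congr_hom (NatTrans.congr_app
      (congr_arg (fun (m : K.cycles n ⟶ K.X n) => m.hom) (HomologicalComplex.cyclesMap_i (sm a) n))
      (op (⊤ : Opens Y))) c).trans ?_
    refine congrArg (fun c' : Γ(Y, ⊤) => c' • ι c) ?_
    exact Groth.Agent.QC.resO_self le_rfl _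
  refine ⟨Gh.image fun y => ι (l y), fun s hs => ?_, fun z hz => ?_⟩
  · obtain ⟨y, -, rfl⟩ := Finset.mem_image.1 hs
    exact hιd _
  obtain ⟨c, rfl⟩ : ∃ c, ι c = z := exists_cycle_section (U := (⊤ : Opens Y)) K n z hz
  let H := AddSubgroup.closure
    ({x | ∃ (a : A), ∃ s ∈ Gh.image (fun y => ι (l y)),
      x = (show Γ(Y, ⊤) from Coh.toGlobal (Y ↘ Spec (CommRingCat.of A)) a) • s} ∪
      Set.range fun w : Γ(I.X ((ComplexShape.up ℕ).prev n), ⊤) => (I.d ((ComplexShape.up ℕ).prev n) n).app ⊤ w)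
  change ι c ∈ H
  have hsm : ∀ a x, x ∈ H → (show Γ(Y, ⊤) from Coh.toGlobal (Y ↘ Spec (CommRingCat.of A)) a) • x ∈ H := by
    intro a x hx
    induction hx using AddSubgroup.closure_induction with
    | mem x hx =>
      rcases hx with ⟨b, s, hs, rfl⟩ | ⟨w, rfl⟩
      · refine AddSubgroup.subset_closure (Or.inl ⟨a * b, s, hs, ?_⟩)
        rw [smul_smul]
        exact congrArg (· • s) (map_mul (Coh.toGlobal (Y ↘ Spec (CommRingCat.of A))) a b).symm
      · exact AddSubgroup.subset_closure (Or.inr ⟨_, TMul.app_smul _ _ _⟩)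
    | zero => rw [smul_zero]; exact zero_mem _
    | add x y _ _ h1 h2 => rw [smul_add]; exact add_mem h1 h2
    | neg x _ h1 => rw [smul_neg]; exact neg_mem h1
  have key : ∀ y, ∃ c', ψ c' = y ∧ ι c' ∈ H := fun y => by
    have hy : y ∈ Submodule.span A (Gh : Set (Coh.HH Y (I.cycles 0) n)) := by rw [hGh]; trivial
    induction hy using Submodule.span_induction with
    | mem y hy =>
      refine ⟨l y, hl y, AddSubgroup.subset_closure (Or.inl ⟨1, _, Finset.mem_image_of_mem _ hy, ?_⟩)⟩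
      rw [map_one]
      exact (one_smul _ _).symm
    | zero => exact ⟨0, map_zero ψ, by rw [map_zero]; exact zero_mem _⟩
    | add x y _ _ hx hy =>
      obtain ⟨cx, hcx, hx⟩ := hx
      obtain ⟨cy, hcy, hy⟩ := hy
      exact ⟨cx + cy, by rw [map_add, hcx, hcy], by rw [map_add]; exact add_mem hx hy⟩
    | smul a x _ hx =>
      obtain ⟨cx, hcx, hx⟩ := hx
      exact ⟨_, by rw [hψsm, hcx], by rw [hιsm]; exact hsm a _ hx⟩
  obtain ⟨c', hc', hmem⟩ := key (ψ c)
  have hd : clsAt K hexK n (⊤ : Opens Y) (c - c') = 0 := hψ0 _ (by rw [map_sub, hc', sub_self])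
  suffices ι (c - c') ∈ H by
    rw [map_sub] at this
    simpa using add_mem this hmem
  rcases n with _ | m
  · have h0 : c - c' = 0 := (secEquiv (⊤ : Opens Y) _).symm.injective (by
      have := (Ext.comp_mk₀_id (Ext.mk₀ ((secEquiv (⊤ : Opens Y) (K.cycles 0)).symm (c - c')))).symm.trans hd
      exact ((Ext.mk₀_bijective _ _).1 (this.trans (Ext.mk₀_zero _ _).symm)).trans (map_zero _).symm)
    rw [h0, map_zero]
    exact zero_mem _
  · obtain ⟨w, hw⟩ := clsAt_eq_zero K hexK hK m (⊤ : Opens Y) (c - c') hd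
    rw [← hw]
    have key2 : ∀ j (hj : j = m) (w : Γ(I.X m, ⊤)), ∃ w' : Γ(I.X j, ⊤), (I.d j (m + 1)).app ⊤ w' =
        (I.d m (m + 1)).app ⊤ w := by rintro j rfl w; exact ⟨w, rfl⟩
    obtain ⟨w', hw'⟩ := key2 _ (CochainComplex.prev_nat_succ m) w
    refine AddSubgroup.subset_closure (Or.inr ⟨w', hw'.trans ?_⟩)
    exact (ConcreteCategory.congr_hom (NatTrans.congr_app
      (congr_arg (fun (f : K.X m ⟶ K.X (m + 1)) => f.hom) (K.toCycles_i m (m + 1))) (op (⊤ : Opens Y))) w).symm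

end Groth.Agent.CohFinite
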