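import Groth.Agent.CohFinite.Proper
import Groth.Agent.CohFinite.Cls
import Groth.Agent.RPushQC.Main
import Groth.Agent.RPushQC.Acyclic

/-!
Higher direct images of coherent modules along proper morphisms are coherent.
-/

universe u

open CategoryTheory Category Limits Opposite TopologicalSpace AlgebraicGeometry
open Groth.Agent.SiteCoh
open Groth.Agent.QC (res resO res_res res_smul res_self)

set_option backward.isDefEq.respectTransparency false

noncomputable section

namespace Groth.Agent.CohFinite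

/-- Functors preserving homology respect the projection from cycles to homology. -/
lemma homologyπ_mapHomologyIso {C D : Type*} [Category C] [Category D] [Limits.HasZeroMorphisms C]
    [Limits.HasZeroMorphisms D] (S : ShortComplex C) (F : C ⥤ D) [F.PreservesZeroMorphisms]
    [S.HasHomology] [(S.map F).HasHomology] [F.PreservesLeftHomologyOf S] :
    (S.map F).homologyπ ≫ (S.mapHomologyIso F).hom = (S.mapCyclesIso F).hom ≫ F.map S.homologyπ := by
  let hl := S.leftHomologyData
  rw [hl.mapHomologyIso_eq F, hl.mapCyclesIso_eq F]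
  dsimp only [Iso.trans_hom, Functor.mapIso_hom, Iso.symm_hom]
  rw [← assoc, (hl.map F).homologyπ_comp_homologyIso_hom, assoc, assoc, ← F.map_comp]
  congr 1
  change F.map hl.π ≫ _ = _
  rw [← F.map_comp, hl.π_comp_homologyIso_inv]

lemma isCoh_of_iso {X : Scheme.{u}} {M N : X.Modules} (e : M ≅ N) (hM : Coh.IsCoh M) : Coh.IsCoh N :=
  ⟨Groth.Agent.QC.isQCoh_of_iso e hM.1, Groth.Agent.QC.isFT_of_epi e.hom hM.2⟩

variable {X S : Scheme.{u}}

/-- Finiteness of the sections of higher direct images over affine opens. -/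
theorem finite_sections_homology [IsLocallyNoetherian S] (f : X ⟶ S) [IsProper f]
    [HasInjectiveResolutions X.Modules] (M : X.Modules) (hM : Coh.IsCoh M) (p : ℕ) {V : S.Opens}
    (hV : IsAffineOpen V) :
    Module.Finite Γ(S, V) Γ((((Coh.push f).mapHomologicalComplex (ComplexShape.up ℕ)).obj
      (injectiveResolution M).cocomplex).homology p, V) := by
  classical
  let R := injectiveResolution M
  let P := ((Coh.push f).mapHomologicalComplex (ComplexShape.up ℕ)).obj R.cocomplex
  -- the preimage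
  have : IsNoetherianRing Γ(S, V) := IsLocallyNoetherian.component_noetherian ⟨V, hV⟩
  let U : X.Opens := f ⁻¹ᵁ V
  let : U.toScheme.Over (Spec (CommRingCat.of Γ(S, V))) := ⟨(f ∣_ V) ≫ hV.isoSpec.hom⟩
  have hp : IsProper (f ∣_ V) := IsZariskiLocalAtTarget.restrict (P := @IsProper) ‹_› V
  have : IsProper (U.toScheme ↘ Spec (CommRingCat.of Γ(S, V))) := by
    change IsProper ((f ∣_ V) ≫ hV.isoSpec.hom)
    infer_instance
  let r := Scheme.Modules.restrictFunctor U.ι
  have : r.PreservesHomology := Functor.preservesHomologyOfExact r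
  let I := (r.mapHomologicalComplex (ComplexShape.up ℕ)).obj R.cocomplex
  have hexI : ∀ m, I.ExactAt (m + 1) := fun m =>
    (HomologicalComplex.exactAt_iff I (m + 1)).mpr
      (((HomologicalComplex.exactAt_iff R.cocomplex (m + 1)).mp (R.cocomplex_exactAt_succ m)).map r)
  have hfl : ∀ n, RPushQC.IsFlasque (R.cocomplex.X n) := fun n => RPushQC.isFlasque_of_injective _
  have hM' : Coh.IsCoh (I.cycles 0) :=
    isCoh_of_iso (r.mapIso (IsLimit.conePointUniqueUpToIso (R.cocomplex.cyclesIsKernel 0 1 (by simp))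
        R.isLimitKernelFork).symm ≪≫ ((R.cocomplex.sc 0).mapCyclesIso r).symm)
      ⟨Groth.Agent.QC.isQCoh_restrict _ hM.1, Groth.Agent.QC.isFT_restrict _ hM.2⟩
  have : Module.Finite Γ(S, V) (Coh.HH U.toScheme (I.cycles 0) p) := finite_proper _ _ _ hM' p
  obtain ⟨G, hG, hgen⟩ := exists_closed_generators Γ(S, V) I hexI
    (fun n => RPushQC.isFlasque_restrict (hfl n) U.ι) p
  -- comparison of sections
  have heq : U.ι ''ᵁ ⊤ = f ⁻¹ᵁ V := by
    rw [Scheme.Hom.image_top_eq_opensRange, Scheme.Opens.opensRange_ι]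
  let ρ : ∀ m, Γ(I.X m, ⊤) →+ Γ(P.X m, V) := fun m =>
    (res (R.cocomplex.X m) heq.ge).comp ((R.cocomplex.X m).restrictAppIso U.ι ⊤).hom.hom
  have hρd : ∀ i j (w : Γ(I.X i, ⊤)), ρ j ((I.d i j).app ⊤ w) = (P.d i j).app V (ρ i w) := fun i j w =>
    Groth.Agent.QC.app_res (R.cocomplex.d i j) heq.ge _
  have hρs : ∀ m, Function.Surjective (ρ m) := fun m v =>
    ⟨res (R.cocomplex.X m) heq.le v, (res_res (R.cocomplex.X m) heq.ge heq.le v).trans (res_self _ le_rfl v)⟩
  have hρi : ∀ m, Function.Injective (ρ m) := fun m x y hxy => by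
    have h := congrArg (res (R.cocomplex.X m) heq.le) hxy
    have e : ∀ z : Γ(I.X m, ⊤), res (R.cocomplex.X m) heq.le (ρ m z) = z := fun z =>
      (res_res (R.cocomplex.X m) heq.le heq.ge _).trans (res_self _ le_rfl _)
    exact (e x).symm.trans (h.trans (e y))
  have hρsm : ∀ (a : Γ(S, V)) (s : Γ(I.X p, ⊤)), ∃ b : Γ(S, V),
      ρ p ((show Γ(U.toScheme, ⊤) from Coh.toGlobal (U.toScheme ↘ Spec (CommRingCat.of Γ(S, V))) a) • s) =
        b • ρ p s := fun a s => by
    let g : Γ(U.toScheme, ⊤) := Coh.toGlobal (U.toScheme ↘ Spec (CommRingCat.of Γ(S, V))) a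
    obtain ⟨c, hc⟩ : ∃ c, g = (f ∣_ V).appTop c := ⟨_, rfl⟩
    have hVtop : V.ι ''ᵁ ⊤ = V := by rw [Scheme.Hom.image_top_eq_opensRange, Scheme.Opens.opensRange_ι]
    refine ⟨resO S hVtop.ge c, ?_⟩
    let Q := R.cocomplex.X p
    refine ((congrArg (res Q heq.ge) (Q.smul_restrictAppIso_hom_apply U.ι ⊤ g s)).trans
      (res_smul Q heq.ge _ _)).trans ?_
    refine congrArg (fun k : Γ(X, f ⁻¹ᵁ V) => k • (res Q heq.ge ((Q.restrictAppIso U.ι ⊤).hom s) :
      Γ(Q, f ⁻¹ᵁ V))) ?_
    rw [Scheme.Opens.ι_appIso, hc, morphismRestrict_appTop]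
    change resO X _ (X.presheaf.map _ (f.app _ c)) = f.app V (S.presheaf.map _ c)
    refine Eq.trans ?_ (ConcreteCategory.congr_hom (f.naturality _) c).symm
    exact (ConcreteCategory.congr_hom (X.presheaf.map_comp _ _) _).symm
  -- surjectivity of the projection to homology
  let T := Groth.Agent.CohQC.toAbF S
  have : PreservesFiniteLimits T := inferInstance
  have : PreservesFiniteColimits T := CohQC.toSheaf_preservesFiniteColimits S.ringCatSheaf
  have : T.PreservesHomology := Functor.preservesHomologyOfExact T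
  let K := (T.mapHomologicalComplex (ComplexShape.up ℕ)).obj P
  have hKX : ∀ n, Acyc (J := Opens.grothendieckTopology S) V (K.X n) := fun n q =>
    haveI := RPushQC.isFlasque_toAb (hfl n)
    haveI : TopCat.Sheaf.IsFlasque ((CohTop.push f.base).obj (Coh.toAb (R.cocomplex.X n))) :=
      TopCat.Sheaf.IsFlasque.pushforward_isFlasque (Coh.toAb (R.cocomplex.X n)) f.base
    flasque_acyclic ((CohTop.push f.base).obj (Coh.toAb (R.cocomplex.X n))) V q
  have hKH : ∀ n, Acyc (J := Opens.grothendieckTopology S) V (K.homology n) := fun n => by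
    have hq : Coh.IsQCoh (P.homology n) :=
      Groth.Agent.QC.isQCoh_of_iso (R.isoRightDerivedObj (Coh.push f) n) (RPushQC.isQCoh_rpush f M hM.1 n)
    have : (P.homology n).IsQuasicoherent := hq
    exact acyc_of_iso ((P.sc n).mapHomologyIso T).symm
      (fun q => CohQC.hu_vanish_of_isAffineOpen (P.homology n) hV q)
  have hπ : Function.Surjective ((P.homologyπ p).app V) := fun x => by
    obtain ⟨y, hy⟩ := homologyπ_surjective K hKX hKH p
      (((P.sc p).mapHomologyIso T).inv.hom.app (op V) x)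
    refine ⟨((P.sc p).mapCyclesIso T).hom.hom.app (op V) y, ?_⟩
    refine (ConcreteCategory.congr_hom (NatTrans.congr_app (congrArg (fun m => m.hom)
      (homologyπ_mapHomologyIso (P.sc p) T)) (op V)) y).symm.trans ?_
    refine (congrArg (((P.sc p).mapHomologyIso T).hom.hom.app (op V)) hy).trans ?_
    exact ConcreteCategory.congr_hom (NatTrans.congr_app (congrArg (fun m => m.hom)
      ((P.sc p).mapHomologyIso T).inv_hom_id) (op V)) x
  let i : Γ(P.cycles p, V) → Γ(P.X p, V) := (P.iCycles p).app V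
  have hi : Function.Injective i := Groth.Agent.QC.app_injective_of_mono (P.iCycles p) V
  have hlift : ∀ v : Γ(P.X p, V), (P.d p (p + 1)).app V v = 0 → ∃ c, i c = v := fun v hv => by
    obtain ⟨y, hy⟩ := exists_cycle_section (U := V) K p v hv
    refine ⟨((P.sc p).mapCyclesIso T).hom.hom.app (op V) y, Eq.trans ?_ hy⟩
    exact ConcreteCategory.congr_hom (NatTrans.congr_app (congrArg (fun m => m.hom)
      ((P.sc p).mapCyclesIso_hom_iCycles T)) (op V)) y
  have hd : ∀ c, (P.d p (p + 1)).app V (i c) = 0 := fun c =>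
    ConcreteCategory.congr_hom (congrArg (fun m : P.cycles p ⟶ P.X (p + 1) => Scheme.Modules.Hom.app m V)
      (P.iCycles_d p (p + 1))) c
  choose l hl using fun s : G => hlift (ρ p s.1)
    (by rw [← hρd, hG s.1 s.2, map_zero])
  refine ⟨⟨Finset.univ.image fun s : G => (P.homologyπ p).app V (l s), eq_top_iff.2 fun x hx => ?_⟩⟩
  clear hx
  obtain ⟨c, rfl⟩ := hπ x
  let N := Submodule.span Γ(S, V)
    ((Finset.univ.image fun s : G => (P.homologyπ p).app V (l s) : Finset _) : Set Γ(P.homology p, V))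
  suffices h : ∀ z : Γ(I.X p, ⊤), (I.d p (p + 1)).app ⊤ z = 0 →
      ∃ c, i c = ρ p z ∧ (P.homologyπ p).app V c ∈ N by
    obtain ⟨z, hz⟩ := hρs p (i c)
    obtain ⟨c', hc', hmem⟩ := h z (hρi (p + 1) (by rw [hρd, hz, hd, map_zero]))
    rwa [← hi (hc'.trans hz)]
  intro z hz
  refine AddSubgroup.closure_induction
    (p := fun z _ => ∃ c, i c = ρ p z ∧ (P.homologyπ p).app V c ∈ N) ?_ ?_ ?_ ?_ (hgen z hz)
  · rintro x (⟨a, s, hs, rfl⟩ | ⟨w, rfl⟩)
    · obtain ⟨b, hb⟩ := hρsm a s
      refine ⟨b • l ⟨s, hs⟩, ?_, ?_⟩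
      · rw [hb]
        exact (TMul.app_smul (P.iCycles p) b _).trans (congrArg (b • ·) (hl ⟨s, hs⟩))
      · rw [TMul.app_smul]
        exact Submodule.smul_mem _ b (Submodule.subset_span
          (Finset.mem_coe.2 (Finset.mem_image_of_mem (fun s : G => (P.homologyπ p).app V (l s))
            (Finset.mem_univ (⟨s, hs⟩ : G)))))
    · refine ⟨(P.toCycles ((ComplexShape.up ℕ).prev p) p).app V (ρ _ w), ?_, ?_⟩
      · refine Eq.trans ?_ (hρd _ _ w).symm
        exact ConcreteCategory.congr_hom (congrArg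
          (fun m : P.X ((ComplexShape.up ℕ).prev p) ⟶ P.X p => Scheme.Modules.Hom.app m V)
          (P.toCycles_i ((ComplexShape.up ℕ).prev p) p)) _
      · have h0 : (P.homologyπ p).app V ((P.toCycles ((ComplexShape.up ℕ).prev p) p).app V (ρ _ w)) = 0 :=
          ConcreteCategory.congr_hom (congrArg
            (fun m : P.X ((ComplexShape.up ℕ).prev p) ⟶ P.homology p => Scheme.Modules.Hom.app m V)
            (P.toCycles_comp_homologyπ ((ComplexShape.up ℕ).prev p) p)) _
        rw [h0]
        exact N.zero_mem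
  · exact ⟨0, (map_zero ((P.iCycles p).app V).hom).trans (map_zero (ρ p)).symm, by
      rw [map_zero]; exact N.zero_mem⟩
  · rintro x y _ _ ⟨cx, h1, h1'⟩ ⟨cy, h2, h2'⟩
    exact ⟨cx + cy, (map_add ((P.iCycles p).app V).hom cx cy).trans
      ((congrArg₂ (· + ·) h1 h2).trans (map_add (ρ p) x y).symm), by rw [map_add]; exact N.add_mem h1' h2'⟩
  · rintro x _ ⟨cx, h1, h1'⟩
    exact ⟨-cx, (map_neg ((P.iCycles p).app V).hom cx).trans ((congrArg Neg.neg h1).trans (map_neg (ρ p) x).symm),
      by rw [map_neg]; exact N.neg_mem h1'⟩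

/-- Higher direct images along proper morphisms preserve coherence. -/
theorem isCoh_rpush [IsLocallyNoetherian S] (f : X ⟶ S) [IsProper f] [HasInjectiveResolutions X.Modules]
    (M : X.Modules) (hM : Coh.IsCoh M) (p : ℕ) : Coh.IsCoh ((Coh.Rpush f p).obj M) := by
  let e := (injectiveResolution M).isoRightDerivedObj (Coh.push f) p
  refine isCoh_of_iso e.symm (Groth.Agent.QC.isCoh_iff_finite_sections.mpr
    ⟨Groth.Agent.QC.isQCoh_of_iso e (RPushQC.isQCoh_rpush f M hM.1 p), fun V =>
      finite_sections_homology f M hM p V.2⟩)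

end Groth.Agent.CohFinite
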