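import Groth.Agent.CohFinite.ProjSpace
import Groth.Agent.CohFinite.Tensor
import Groth.Agent.CohQC.Restrict
import Groth.Agent.S0022
import Groth.Agent.TMul.Assoc
import Groth.Agent.TMul.GlobGen

/-!
Serre vanishing on projective space.
-/

universe u

open CategoryTheory CategoryTheory.Limits Opposite TopologicalSpace AlgebraicGeometry

set_option backward.isDefEq.respectTransparency false

noncomputable section

namespace Groth.Agent.CohFinite

attribute [local instance] Abelian.hasFiniteBiproducts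

section

variable {X : Scheme.{u}}

lemma subsingleton_of_shortExact {S : ShortComplex X.Modules} (hS : S.ShortExact) (q : ℕ)
    (h₂ : Subsingleton (Coh.HH X S.X₂ q)) (h₁ : Subsingleton (Coh.HH X S.X₁ (q + 1))) :
    Subsingleton (Coh.HH X S.X₃ q) := by
  refine subsingleton_of_forall_eq 0 fun x => ?_
  obtain ⟨y, hy⟩ := (δH_eq_zero_iff (shortExact_toAb hS) q x).1 (h₁.elim _ _)
  exact hy.symm.trans ((congrArg _ (h₂.elim y 0)).trans (map_zero _))

lemma subsingleton_of_shortExact_mid {S : ShortComplex X.Modules} (hS : S.ShortExact) (q : ℕ)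
    (h₁ : Subsingleton (Coh.HH X S.X₁ q)) (h₃ : Subsingleton (Coh.HH X S.X₃ q)) :
    Subsingleton (Coh.HH X S.X₂ q) := by
  refine subsingleton_of_forall_eq 0 fun x => ?_
  obtain ⟨y, hy⟩ := (map_g_eq_zero_iff (shortExact_toAb hS) q x).1 (h₃.elim _ _)
  exact hy.symm.trans ((congrArg _ (h₁.elim y 0)).trans (map_zero _))

lemma subsingleton_of_split {ι : Type} [Fintype ι] (M : X.Modules) (N : ι → X.Modules) (i : ∀ j, N j ⟶ M)
    (p : ∀ j, M ⟶ N j) (h : ∑ j, p j ≫ i j = 𝟙 M) (q : ℕ) (hN : ∀ j, Subsingleton (Coh.HH X (N j) q)) :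
    Subsingleton (Coh.HH X M q) := by
  refine subsingleton_of_forall_eq 0 fun x => ?_
  let φ : (M ⟶ M) →+ Coh.HH X M q :=
    AddMonoidHom.mk' (fun f => Sheaf.H.map ((SheafOfModules.toSheaf X.ringCatSheaf).map f) q x) fun a b =>
      (congr_arg (fun g => Sheaf.H.map g q x) ((SheafOfModules.toSheaf X.ringCatSheaf).map_add (f := a) (g := b))).trans
        (Sheaf.H.map_add_apply _ _ _)
  calc x = φ (𝟙 _) := (CohQC.hmap_id q _ x).symm
    _ = φ (∑ j, p j ≫ i j) := congr_arg φ h.symm
    _ = ∑ j, φ (p j ≫ i j) := map_sum φ _ _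
    _ = 0 := Finset.sum_eq_zero fun j _ => (CohQC.hmap_comp q (p j) (i j) x).trans
        ((congr_arg (Sheaf.H.map ((SheafOfModules.toSheaf X.ringCatSheaf).map (i j)) q)
          (@Subsingleton.elim _ (hN j) _ 0)).trans (map_zero _))

lemma isCoh_tensor {F L : X.Modules} (hF : Coh.IsCoh F) (hL : PicF.IsInvertible L) :
    Coh.IsCoh (CohB1.tensorMod F L) :=
  ⟨TMul.isQCoh_tensor hL (hF := hF.1), TMul.isFT_tensor hL hF.2⟩

end

variable (n : ℕ) (R : Type u) [CommRing R]

lemma cov_one (x : ProjectiveSpectrum (CohB1.polyGrading n R)) :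
    ∃ f ∈ CohB1.polyGrading n R 1, f ∉ x.asHomogeneousIdeal :=
  let ⟨i, hi⟩ := cov_X n R x
  ⟨_, MvPolynomial.isHomogeneous_X R i.down, hi⟩

lemma isInvertible_twist (d : ℤ) : PicF.IsInvertible (Twist.twistProjSpace n R d) :=
  GrT.isInvertible_twist (cov_one n R) d

lemma isInvertible_twistPow (m : ℕ) :
    PicF.IsInvertible (CohB1.tensorPow (Twist.twistProjSpace n R 1) m) :=
  TMul.isInvertible_tensorPow (isInvertible_twist n R 1) m

lemma nonempty_twist_tensorPow (d : ℤ) (m : ℕ) :
    Nonempty (CohB1.tensorMod (Twist.twistProjSpace n R d) (CohB1.tensorPow (Twist.twistProjSpace n R 1) m) ≅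
      Twist.twistProjSpace n R (d + m)) := by
  obtain ⟨e⟩ := GrT.nonempty_iso_tensorPow (𝒜 := CohB1.polyGrading n R) (cov_one n R) m
  obtain ⟨i⟩ := GrT.nonempty_tensor_iso (a := d) (b := (m : ℤ)) (c := d + m) (CohB1.polyGrading n R) (cov_one n R) rfl
  exact ⟨PicGrp.tensorModIso (Iso.refl _) e.symm ≪≫ i⟩

variable [IsNoetherianRing R]

/-- Serre vanishing on projective space, one degree at a time. -/
theorem vanish_projSpace_deg (p : ℕ) (F : (CohB1.ProjSpace n R).Modules) (hF : Coh.IsCoh F) :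
    ∃ m₀ : ℕ, ∀ m, m₀ ≤ m → Subsingleton (Coh.HH (CohB1.ProjSpace n R)
      (CohB1.tensorMod F (CohB1.tensorPow (Twist.twistProjSpace n R 1) m)) (p + 1)) := by
  have := isNoetherian_projSpace n R
  suffices h : ∀ (k p : ℕ) (F : (CohB1.ProjSpace n R).Modules), Coh.IsCoh F → n ≤ p + k → ∃ m₀ : ℕ, ∀ m, m₀ ≤ m →
      Subsingleton (Coh.HH (CohB1.ProjSpace n R)
        (CohB1.tensorMod F (CohB1.tensorPow (Twist.twistProjSpace n R 1) m)) (p + 1)) from
    h n p F hF (by omega)
  intro k
  induction k with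
  | zero =>
    intro p F hF hp
    refine ⟨0, fun m _ => ?_⟩
    have : Coh.IsQCoh (CohB1.tensorMod F (CohB1.tensorPow (Twist.twistProjSpace n R 1) m)) :=
      (isCoh_tensor hF (isInvertible_twistPow n R m)).1
    exact Groth.Agent.S0022.result n R _ (p + 1) (by omega)
  | succ k ih =>
    intro p F hF hp
    obtain ⟨N, hN⟩ := GrT.exists_epi_twists
      (v := fun i : ProjCech.J.{u} n => (MvPolynomial.X i.down : MvPolynomial (Fin (n + 1)) R))
      (fun i => MvPolynomial.isHomogeneous_X R i.down) hF.1 hF.2 (cov_X n R)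
    obtain ⟨l, q, hq⟩ := hN N le_rfl
    let T : Fin l → (CohB1.ProjSpace n R).Modules := fun _ => Twist.twistProjSpace n R (-(N : ℤ))
    let q' : ⨁ T ⟶ F := (biproduct.isoCoproduct T).hom ≫ q
    have : Epi q' := epi_comp _ _
    have hT : Coh.IsCoh (⨁ T) := Devissage.isCoh_biproduct T fun _ => isCoh_twist n R _
    have hK : Coh.IsCoh (kernel q') := Groth.Agent.QC.isCoh_kernel hT hF.1 q'
    have hS : (ShortComplex.mk (kernel.ι q') q' (kernel.condition q')).ShortExact :=
      { exact := ShortComplex.exact_of_f_is_kernel _ (kernelIsKernel q') }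
    obtain ⟨m₁, hm₁⟩ := ih (p + 1) (kernel q') hK (by omega)
    refine ⟨max m₁ N, fun m hm => ?_⟩
    refine subsingleton_of_shortExact (shortExact_tmap (isInvertible_twistPow n R m) hS) (p + 1) ?_
      (hm₁ m (le_trans (le_max_left _ _) hm))
    refine subsingleton_of_split _ (fun _ : Fin l => CohB1.tensorMod (Twist.twistProjSpace n R (-(N : ℤ)))
        (CohB1.tensorPow (Twist.twistProjSpace n R 1) m))
      (fun j => tmap (biproduct.ι T j) _) (fun j => tmap (biproduct.π T j) _) ?_ (p + 1) fun j => ?_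
    · simp only [← tmap_comp]
      exact (tmap_sum _ _ _).symm.trans ((congrArg (fun ψ => tmap ψ _) biproduct.total).trans (tmap_id _ _))
    · obtain ⟨e⟩ := nonempty_twist_tensorPow n R (-(N : ℤ)) m
      refine CohQC.hh_subsingleton_of_iso e.symm _ (ProjCech.twist_vanish n _ _ (by omega) ?_)
      have := le_trans (le_max_right m₁ N) hm
      omega

/-- Serre vanishing on projective space. -/
theorem vanish_projSpace (F : (CohB1.ProjSpace n R).Modules) (hF : Coh.IsCoh F) :
    ∃ m₀ : ℕ, ∀ m, m₀ ≤ m → ∀ p : ℕ, Subsingleton (Coh.HH (CohB1.ProjSpace n R)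
      (CohB1.tensorMod F (CohB1.tensorPow (Twist.twistProjSpace n R 1) m)) (p + 1)) := by
  choose f hf using fun p => vanish_projSpace_deg n R p F hF
  refine ⟨(Finset.range n).sup f, fun m hm p => ?_⟩
  by_cases hp : p < n
  · exact hf p m (le_trans (Finset.le_sup (Finset.mem_range.mpr hp)) hm)
  · have : Coh.IsQCoh (CohB1.tensorMod F (CohB1.tensorPow (Twist.twistProjSpace n R 1) m)) :=
      (isCoh_tensor hF (isInvertible_twistPow n R m)).1
    exact Groth.Agent.S0022.result n R _ (p + 1) (by omega)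

end Groth.Agent.CohFinite
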