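import Groth.Agent.CohFinite.Linear
import Groth.Agent.ProjCech.Main
import Groth.Agent.Devissage.Power
import Groth.Agent.GrT.TwistEpi
import Groth.Agent.GrT.TwistTensor
import Groth.Agent.ProjMor.ProjSpaceBase
import Groth.Agent.QC.Closure
import Groth.Agent.QC.Coherent
import Mathlib.AlgebraicGeometry.Morphisms.FiniteType

/-!
Finiteness of coherent cohomology on projective space.
-/

universe u

open CategoryTheory CategoryTheory.Limits Opposite TopologicalSpace AlgebraicGeometry

set_option backward.isDefEq.respectTransparency false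

noncomputable section

namespace Groth.Agent.CohFinite

attribute [local instance] Abelian.hasFiniteBiproducts

variable (n : ℕ) (R : Type u) [CommRing R]

lemma cov_X (x : ProjectiveSpectrum (CohB1.polyGrading n R)) :
    ∃ i : ProjCech.J.{u} n, (MvPolynomial.X i.down : MvPolynomial (Fin (n + 1)) R) ∉ x.asHomogeneousIdeal := by
  have h : x ∈ ⨆ i : Fin (n + 1), Proj.basicOpen (CohB1.polyGrading n R) (MvPolynomial.X i) :=
    (Groth.Agent.S9576.result n R).1.ge trivial
  obtain ⟨l, hl⟩ := Opens.mem_iSup.1 h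
  exact ⟨⟨l⟩, (ProjectiveSpectrum.mem_basicOpen _ _ x).mp hl⟩

/-- Every twist has finite cohomology. -/
theorem finite_twist (d : ℤ) (q : ℕ) :
    Module.Finite R (Coh.HH (CohB1.ProjSpace n R) (Twist.twistProjSpace n R d) q) := by
  have hfin : ∀ k : ℕ, Module.Finite R ↥(MvPolynomial.homogeneousSubmodule (Fin (n + 1)) R k) :=
    fun k => Module.Finite.iff_fg.mpr (MvPolynomial.homogeneousSubmodule_fg _ R k)
  by_cases h₀ : q = 0 ∧ 0 ≤ d
  · obtain ⟨rfl, hd⟩ := h₀
    obtain ⟨k, rfl⟩ := Int.eq_ofNat_of_zero_le hd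
    obtain ⟨e⟩ := ProjCech.zero_equiv (R := R) n k
    exact Module.Finite.equiv e.symm
  by_cases hn : q = n ∧ d ≤ -((n : ℤ) + 1)
  · obtain ⟨rfl, hd⟩ := hn
    obtain ⟨k, hk⟩ := Int.eq_ofNat_of_zero_le (show 0 ≤ -((q : ℤ) + 1) - d by omega)
    obtain rfl : d = -((q : ℤ) + 1 + k) := by omega
    obtain ⟨e⟩ := ProjCech.top_equiv (R := R) q k
    exact Module.Finite.equiv e.symm
  have := ProjCech.twist_vanish (R := R) n d q h₀ hn
  exact Module.Finite.of_finite

lemma isCoh_twist (d : ℤ) : Coh.IsCoh (GrTilde.tilde (CohB1.polyGrading n R) (CohB1.polyGrading n R) d) := by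
  let 𝒪 := GrTilde.tilde (CohB1.polyGrading n R) (CohB1.polyGrading n R) d
  have hq : 𝒪.IsQuasicoherent := GrT.isQCoh_tilde _ _ d
  refine ⟨hq, Groth.Agent.QC.isFT_iff_exists_hasFinGen.mpr fun x => ?_⟩
  obtain ⟨W, e, hxW, he⟩ := GrT.exists_gen (𝒜 := CohB1.polyGrading n R)
    (fun y => let ⟨i, hi⟩ := cov_X n R y; ⟨_, MvPolynomial.isHomogeneous_X R i.down, hi⟩) x d
  obtain ⟨V, hV, hxV, hVW⟩ := CohQC.exists_affine_le W x hxW
  have : Module.Finite Γ(Proj (CohB1.polyGrading n R), V) Γ(𝒪, V) :=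
    Module.Finite.of_surjective (LinearMap.toSpanSingleton _ Γ(𝒪, V) (QC.res 𝒪 hVW e)) (he V hVW).2
  exact ⟨V, hxV, Groth.Agent.QC.hasFinGen_of_finite hV⟩

variable [IsNoetherianRing R]

lemma isNoetherian_projSpace : AlgebraicGeometry.IsNoetherian (CohB1.ProjSpace n R) := by
  have := ProjMor.isProper_toSpec n R
  have : IsLocallyNoetherian (CohB1.ProjSpace n R) :=
    LocallyOfFiniteType.isLocallyNoetherian (CohB1.ProjSpace.toSpec n R)
  have : CompactSpace (CohB1.ProjSpace n R) := QuasiCompact.compactSpace_of_compactSpace (CohB1.ProjSpace.toSpec n R)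
  exact {}

/-- Coherent modules on projective space have finite cohomology. -/
theorem finite_projSpace (M : (CohB1.ProjSpace n R).Modules) (hM : Coh.IsCoh M) (q : ℕ) :
    Module.Finite R (Coh.HH (CohB1.ProjSpace n R) M q) := by
  have := isNoetherian_projSpace n R
  suffices h : ∀ (m q : ℕ) (M : (CohB1.ProjSpace n R).Modules), Coh.IsCoh M → n + 1 ≤ q + m →
      Module.Finite R (Coh.HH (CohB1.ProjSpace n R) M q) from h (n + 1) q M hM (by omega)
  intro m
  induction m with
  | zero =>
    intro q M hM hq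
    have : Coh.IsQCoh M := hM.1
    have := Groth.Agent.S0022.result n R M q (by omega)
    exact Module.Finite.of_finite
  | succ m ih =>
    intro q M hM hq
    obtain ⟨N, hN⟩ := GrT.exists_epi_twists
      (v := fun i : ProjCech.J.{u} n => (MvPolynomial.X i.down : MvPolynomial (Fin (n + 1)) R))
      (fun i => MvPolynomial.isHomogeneous_X R i.down) hM.1 hM.2 (cov_X n R)
    obtain ⟨k, p, hp⟩ := hN N le_rfl
    let T : Fin k → (CohB1.ProjSpace n R).Modules := fun _ => Twist.twistProjSpace n R (-(N : ℤ))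
    let p' : ⨁ T ⟶ M := (biproduct.isoCoproduct T).hom ≫ p
    have : Epi p' := epi_comp _ _
    have hT : Coh.IsCoh (⨁ T) := Devissage.isCoh_biproduct T fun _ => isCoh_twist n R _
    have hK : Coh.IsCoh (kernel p') := Groth.Agent.QC.isCoh_kernel hT hM.1 p'
    have : Module.Finite R (Coh.HH (CohB1.ProjSpace n R) (⨁ T) q) :=
      @finite_of_split _ R _ _ (Fin k) _ (⨁ T) T (biproduct.ι T) (biproduct.π T) biproduct.total q
        (fun _ => finite_twist n R _ q)
    have : Module.Finite R (Coh.HH (CohB1.ProjSpace n R) (kernel p') (q + 1)) := ih (q + 1) _ hK (by omega)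
    exact finite_of_shortExact R (S := ShortComplex.mk (kernel.ι p') p' (kernel.condition p'))
      { exact := ShortComplex.exact_of_f_is_kernel _ (kernelIsKernel p') } q

end Groth.Agent.CohFinite
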