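import Groth.Agent.CohQC.AcycResolution
import Groth.Agent.ProjCech.CompareNat
import Groth.Agent.CohFinite.CompareNat

/-!
Closed sections of a flasque resolution modulo exact ones are finitely generated when cohomology is.
-/

universe u

open CategoryTheory Category Limits Opposite TopologicalSpace AlgebraicGeometry Abelian
open Groth.Agent.SiteCoh Groth.Agent.CohQC Groth.Agent.ProjCech



noncomputable section

namespace Groth.Agent.CohFinite

section Site

variable {C : Type u} [SmallCategory C] {J : GrothendieckTopology C}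
  {K L : CochainComplex (Sheaf J AddCommGrpCat.{u}) ℕ}
  (hexK : ∀ n, K.ExactAt (n + 1)) (hexL : ∀ n, L.ExactAt (n + 1)) (φ : K ⟶ L)

include φ in
lemma eClass_natural (n : ℕ) :
    (Ext.mk₀ (HomologicalComplex.cyclesMap φ n)).comp (eClass L hexL n) (zero_add n) =
      (eClass K hexK n).comp (Ext.mk₀ (HomologicalComplex.cyclesMap φ 0)) (add_zero n) := by
  induction n with
  | zero =>
    change (Ext.mk₀ _).comp (Ext.mk₀ (𝟙 _)) (zero_add 0) = (Ext.mk₀ (𝟙 _)).comp _ (add_zero 0)
    rw [Ext.mk₀_comp_mk₀, Ext.mk₀_comp_mk₀, comp_id, id_comp]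
  | succ n ih =>
    let ψ : seqC K n ⟶ seqC L n := ShortComplex.homMk (HomologicalComplex.cyclesMap φ n) (φ.f n)
      (HomologicalComplex.cyclesMap φ (n + 1)) (HomologicalComplex.cyclesMap_i φ n)
      (by rw [← cancel_mono (L.iCycles (n + 1))]; simp)
    have e := ShortComplex.ShortExact.extClass_naturality (seqC_shortExact K hexK n) (seqC_shortExact L hexL n) ψ
    change (Ext.mk₀ ψ.τ₃).comp ((seqC_shortExact L hexL n).extClass.comp (eClass L hexL n) (Nat.add_comm 1 n))
        (zero_add (n + 1)) =
      ((seqC_shortExact K hexK n).extClass.comp (eClass K hexK n) (Nat.add_comm 1 n)).comp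
        (Ext.mk₀ (HomologicalComplex.cyclesMap φ 0)) (add_zero (n + 1))
    refine (Ext.comp_assoc (Ext.mk₀ ψ.τ₃) (seqC_shortExact L hexL n).extClass (eClass L hexL n)
      (zero_add 1) (Nat.add_comm 1 n) (show 0 + 1 + n = n + 1 by omega)).symm.trans ?_
    refine ((congrArg (fun z => Ext.comp z (eClass L hexL n) (Nat.add_comm 1 n)) e.symm).trans
      (Ext.comp_assoc (seqC_shortExact K hexK n).extClass (Ext.mk₀ ψ.τ₁) (eClass L hexL n) (add_zero 1) (zero_add n)
        (show 1 + 0 + n = n + 1 by omega))).trans ?_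
    refine Eq.trans ?_ (Ext.comp_assoc (seqC_shortExact K hexK n).extClass (eClass K hexK n)
      (Ext.mk₀ (HomologicalComplex.cyclesMap φ 0)) (Nat.add_comm 1 n) (add_zero n) (show 1 + n + 0 = n + 1 by omega)).symm
    exact congrArg (fun z => Ext.comp (seqC_shortExact K hexK n).extClass z (Nat.add_comm 1 n)) ih

/-- Classes of sections of cycles, naturally in the complex. -/
lemma clsAt_natural (n : ℕ) (U : C) (z : (K.cycles n).obj.obj (op U)) :
    clsAt L hexL n U ((HomologicalComplex.cyclesMap φ n).hom.app (op U) z) =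
      huMap U (HomologicalComplex.cyclesMap φ 0) n (clsAt K hexK n U z) := by
  have e : (secEquiv U (L.cycles n)).symm ((HomologicalComplex.cyclesMap φ n).hom.app (op U) z) =
      (secEquiv U (K.cycles n)).symm z ≫ HomologicalComplex.cyclesMap φ n :=
    (secEquiv U _).symm_apply_eq.mpr (((congr_arg _ ((secEquiv U _).apply_symm_apply z)).symm).trans
      (secEquiv_comp _ _).symm)
  change (Ext.mk₀ _).comp _ (zero_add n) = ((Ext.mk₀ _).comp _ (zero_add n)).comp _ (add_zero n)
  rw [e, ← Ext.mk₀_comp_mk₀, Ext.comp_assoc _ _ _ (zero_add 0) (zero_add n) (by omega),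
    Ext.comp_assoc _ _ _ (zero_add n) (add_zero n) (by omega), eClass_natural hexK hexL φ n]

end Site

end Groth.Agent.CohFinite
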